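import Cfsg.Agent.Lib.As8.MX

/-! A presentation of `S₃ × S₃ × S₃` (helper7). -/

set_option autoImplicit false
set_option maxRecDepth 1000000
set_option maxHeartbeats 0

namespace Cfsg.Lib.As8

open Cfsg.Lib.Calc Cfsg.Lib.Grp Cfsg.Lib.T2 Cfsg.Lib.T3

/-- relators -/
def rSa : List W := [.mul (.l 7) (.l 7), .mul (.l 14) (.l 14), .mul (.l 15) (.l 15), .mul (.mul (.mul (.l 7) (.l 16)) (.inv (.l 7))) (.l 16), .mul (.mul (.mul (.l 7) (.l 3)) (.inv (.l 7))) (.inv (.l 3)), .mul (.mul (.mul (.l 7) (.l 11)) (.inv (.l 7))) (.inv (.l 11)), .pow (.mul (.l 7) (.l 14)) 2, .pow (.mul (.l 7) (.l 15)) 2, .pow (.mul (.l 14) (.l 15)) 2, .mul (.mul (.mul (.l 14) (.l 16)) (.inv (.l 14))) (.inv (.l 16)), .mul (.mul (.mul (.l 14) (.l 3)) (.inv (.l 14))) (.l 11), .mul (.mul (.mul (.l 14) (.l 11)) (.inv (.l 14))) (.l 3), .mul (.mul (.mul (.l 15) (.l 16)) (.inv (.l 15))) (.inv (.l 16)), .mul (.mul (.mul (.l 15) (.l 3)) (.inv (.l 15))) (.inv (.l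 11)), .mul (.mul (.mul (.l 15) (.l 11)) (.inv (.l 15))) (.inv (.l 3))]

/-- relators -/
def rS : List W := rE ++ rSa

/-- inverse letters -/
def tS_iv : ℕ := 647582250721880707548232321056

/-- inverse letters -/
def tS_labs : List W := [.l 0, .l 0, .l 0, .l 3, .l 0, .l 0, .l 0, .l 7, .l 0, .l 0, .l 0, .l 11, .l 0, .l 0, .l 14, .l 15, .l 16, .inv (.l 3), .inv (.l 11), .inv (.l 16)]

def tS_F : Tr := .leaf (nat_lit 0x5f978f1f9f8775773e3f5e968e1e9e8673765d958d1d9d853b3d945c8c1c9c843a3c5b938b1b9b83925a8a1a9a829159891999819880905888187f7c7e7a7d7974717b78727039380000)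
def tS_T : Tr := .leaf (nat_lit 16434824)
def tS_P : Tr := .leaf (nat_lit 0x7fc007fc007fc007fc007fc007fc72c1e00c203978f002101cac7801078e102c0002c7291a0001430f0d0061018846801080c3a340083c6040e0001628c0b00610146c5801080a2e2c0083c5020e0001420c090060d1068480106882e24008304020a0001218807006100c4c380108062a1c0083c2100a00c1a109050020d085428010602260c00820111060040e08a0300206)
def tS_N_0 : Tr := .node (.node (.node (.node (.leaf (nat_lit 16912))
  (.leaf (nat_lit 624)))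
  (.leaf (nat_lit 5125)))
  (.node (.leaf (nat_lit 605295))
  (.leaf (nat_lit 587))))
  (.node (.node (.node (.leaf (nat_lit 597351))
  (.leaf (nat_lit 531)))
  (.leaf (nat_lit 264)))
  (.node (.leaf (nat_lit 547))
  (.leaf (nat_lit 13325))))
def tS_N_1 : Tr := .node (.node (.node (.node (.leaf (nat_lit 609648))
  (.leaf (nat_lit 3089)))
  (.leaf (nat_lit 231)))
  (.node (.leaf (nat_lit 1025))
  (.leaf (nat_lit 396))))
  (.node (.node (.node (.leaf (nat_lit 637454))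
  (.leaf (nat_lit 0)))
  (.leaf (nat_lit 9225)))
  (.node (.leaf (nat_lit 132))
  (.leaf (nat_lit 495))))
def tS_N_2 : Tr := .node (.node (.node (.node (.leaf (nat_lit 11627))
  (.leaf (nat_lit 113)))
  (.leaf (nat_lit 198)))
  (.node (.leaf (nat_lit 33))
  (.leaf (nat_lit 18443))))
  (.node (.node (.node (.leaf (nat_lit 499175))
  (.leaf (nat_lit 16403)))
  (.leaf (nat_lit 297)))
  (.node (.leaf (nat_lit 17411))
  (.leaf (nat_lit 462))))
def tS_N_3 : Tr := .node (.node (.node (.node (.leaf (nat_lit 531975))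
  (.leaf (nat_lit 370)))
  (.leaf (nat_lit 7175)))
  (.node (.leaf (nat_lit 66))
  (.leaf (nat_lit 429))))
  (.node (.node (.leaf (nat_lit 113006))
  (.leaf (nat_lit 330)))
  (.node (.leaf (nat_lit 165))
  (.leaf (nat_lit 15375))))
def tS_N_4 : Tr := .node (.node (.node (.node (.leaf (nat_lit 3171))
  (.leaf (nat_lit 19472)))
  (.leaf (nat_lit 198)))
  (.node (.leaf (nat_lit 572783))
  (.leaf (nat_lit 587))))
  (.node (.node (.node (.leaf (nat_lit 466375))
  (.leaf (nat_lit 531)))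
  (.leaf (nat_lit 8200)))
  (.node (.leaf (nat_lit 547))
  (.leaf (nat_lit 462))))
def tS_N_5 : Tr := .node (.node (.node (.node (.leaf (nat_lit 607587))
  (.leaf (nat_lit 370)))
  (.leaf (nat_lit 231)))
  (.node (.leaf (nat_lit 66))
  (.leaf (nat_lit 12300))))
  (.node (.node (.leaf (nat_lit 374894))
  (.leaf (nat_lit 330)))
  (.node (.leaf (nat_lit 4100))
  (.leaf (nat_lit 495))))
def tS_N_6 : Tr := .node (.node (.node (.node (.leaf (nat_lit 576624))
  (.leaf (nat_lit 113)))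
  (.leaf (nat_lit 6150)))
  (.node (.leaf (nat_lit 33))
  (.leaf (nat_lit 396))))
  (.node (.node (.node (.leaf (nat_lit 506350))
  (.leaf (nat_lit 0)))
  (.leaf (nat_lit 297)))
  (.node (.leaf (nat_lit 132))
  (.leaf (nat_lit 14350))))
def tS_N_7 : Tr := .node (.node (.node (.node (.leaf (nat_lit 564327))
  (.leaf (nat_lit 11282)))
  (.leaf (nat_lit 264)))
  (.node (.leaf (nat_lit 2050))
  (.leaf (nat_lit 429))))
  (.node (.node (.leaf (nat_lit 638479))
  (.leaf (nat_lit 10250)))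
  (.node (.leaf (nat_lit 165))
  (.leaf (nat_lit 624))))
def tS_N : Tr := .node (.node (.node tS_N_0
  tS_N_1)
  (.node tS_N_2
  tS_N_3))
  (.node (.node tS_N_4
  tS_N_5)
  (.node tS_N_6
  tS_N_7))
noncomputable def tS : TC :=
  ⟨[.l 0, .l 1, .l 2, .l 3, .l 4, .l 5, .l 6, .l 7, .l 8, .l 9, .l 10, .l 11, .l 12, .l 13, .l 14, .l 15, .l 16, .l 17, .l 18, .l 19],
    (nat_lit 3), (nat_lit 7), (nat_lit 0x82c737b9ac92928398a488820), (nat_lit 67593), (nat_lit 8), (nat_lit 3), (nat_lit 32), (nat_lit 1), (nat_lit 77),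
    get (nat_lit 10) (nat_lit 0x400c0400c02010030080400c02010030080400c02010030080400c02010030080400c02010030080400c02010030080400c02010030080400c02010030080400c02010030080400c02010040100401004010040100401004010040100300c03), Tr.get tS_N, get (nat_lit 20) (nat_lit 0x3ff003ff003ff003ff003ff003ff003ff003ff003ff003ff003ff003ff003ff003ff003ff003ff003ff003ff003ff003ff003ff003ff003ff003ff003ff003ff003ff003ff003ff003ff003ff003ff003ff003ff003ff003ff003ff003ff003ff003ff003ff003ff003ff003ff003ff003ff003ff003ff003ff003ff003ff003ff003ff003ff003ff003ff003ff003ff003ff00014000130001200011000100000f0000e0000d0000c0000b0000a00009000050000400003000020000100000),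
    Tr.get3 tS_F (nat_lit 16) (nat_lit 5), Tr.get3 tS_T (nat_lit 3) (nat_lit 8), Tr.get tS_P⟩

theorem tS_head : tS.headOK rS tS_iv = true := by decide +kernel

theorem tS_b0 : allFrom (nat_lit 0) (nat_lit 1) tS.blockOK = true := by decide +kernel

def tS_Q16 : Tr := .leaf (nat_lit 0x88e992a4470b14)
theorem tS_f16_0 : allFrom (nat_lit 0) (nat_lit 8) (tS.finOK (nat_lit 8) (Tr.get3 tS_Q16 (nat_lit 7) (nat_lit 7)) (nat_lit 16)) = true := by
  decide +kernel

def tS_Q15 : Tr := .leaf (nat_lit 4257119398)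
theorem tS_f15_0 : allFrom (nat_lit 0) (nat_lit 8) (tS.finOK (nat_lit 8) (Tr.get3 tS_Q15 (nat_lit 4) (nat_lit 7)) (nat_lit 15)) = true := by
  decide +kernel

def tS_Q14 : Tr := .leaf (nat_lit 0x84e21897214404)
theorem tS_f14_0 : allFrom (nat_lit 0) (nat_lit 8) (tS.finOK (nat_lit 8) (Tr.get3 tS_Q14 (nat_lit 7) (nat_lit 7)) (nat_lit 14)) = true := by
  decide +kernel

def tS_Q11 : Tr := .leaf (nat_lit 0x92fdbae4e80d12)
theorem tS_f11_0 : allFrom (nat_lit 0) (nat_lit 8) (tS.finOK (nat_lit 8) (Tr.get3 tS_Q11 (nat_lit 7) (nat_lit 7)) (nat_lit 11)) = true := by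
  decide +kernel

def tS_Q7 : Tr := .leaf (nat_lit 0x810582862a4182)
theorem tS_f7_0 : allFrom (nat_lit 0) (nat_lit 8) (tS.finOK (nat_lit 8) (Tr.get3 tS_Q7 (nat_lit 7) (nat_lit 7)) (nat_lit 7)) = true := by
  decide +kernel

def tS_Q3 : Tr := .leaf (nat_lit 0x8cf1a2c4878c10)
theorem tS_f3_0 : allFrom (nat_lit 0) (nat_lit 8) (tS.finOK (nat_lit 8) (Tr.get3 tS_Q3 (nat_lit 7) (nat_lit 7)) (nat_lit 3)) = true := by
  decide +kernel

theorem tS_blocks : ∀ t < tS.k, tS.blockOK t = true :=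
  (of_allFrom_append of_lt_zero tS_b0)

/-- index 8 max 8 total 8 facts 37 | needed cosets 8 facts 37 steps 78 trivial 0 -/
theorem tS_index {G : Type*} [Group G] {γ : ℕ → G} (hL : Lab γ tS_iv) (hr : ∀ t ∈ rS, t.ev γ = 1) {K : Subgroup G}
    (hK : ∀ t ∈ ([.l 3, .l 11, .l 16] : List W), t.ev γ ∈ K) :
    K.relIndex (genW γ [.l 3, .l 7, .l 11, .l 14, .l 15, .l 16]) ≠ 0 ∧ K.relIndex (genW γ [.l 3, .l 7, .l 11, .l 14, .l 15, .l 16]) ≤ 8 :=
  TC.relIndex_le (D := tS) (gens := [3, 7, 11, 14, 15, 16]) hL (List.forall_mem_cons.2 ⟨hL.zero_mem K, hK⟩) hr tS_head tS_blocks (by decide) (by decide)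
   (List.forall_mem_cons.2 ⟨⟨_, (of_allFrom_append of_lt_zero tS_f3_0)⟩,
    List.forall_mem_cons.2 ⟨⟨_, (of_allFrom_append of_lt_zero tS_f7_0)⟩,
    List.forall_mem_cons.2 ⟨⟨_, (of_allFrom_append of_lt_zero tS_f11_0)⟩,
    List.forall_mem_cons.2 ⟨⟨_, (of_allFrom_append of_lt_zero tS_f14_0)⟩,
    List.forall_mem_cons.2 ⟨⟨_, (of_allFrom_append of_lt_zero tS_f15_0)⟩,
    List.forall_mem_cons.2 ⟨⟨_, (of_allFrom_append of_lt_zero tS_f16_0)⟩,
    fun _ h => absurd h List.not_mem_nil⟩⟩⟩⟩⟩⟩)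

theorem tS_idx {G : Type*} [Group G] {γ : ℕ → G} (h0 : γ 0 = 1) (hr : ∀ t ∈ rS, t.ev γ = 1) {K : Subgroup G}
    (hK : ∀ t ∈ ([.l 3, .l 11, .l 16] : List W), t.ev γ ∈ K) :
    K.relIndex (genW γ [.l 3, .l 7, .l 11, .l 14, .l 15, .l 16]) ≠ 0 ∧ K.relIndex (genW γ [.l 3, .l 7, .l 11, .l 14, .l 15, .l 16]) ≤ 8 := by
  have a := lab_of_rels h0 hr (iv := tS_iv) (labs := tS_labs) (by decide +kernel)
  have b := tS_index a.1 a.2 (mems_fix (by decide +kernel) hK)
  rwa [genW_fix (by decide +kernel)] at b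

end Cfsg.Lib.As8
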