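import Cfsg.Agent.Lib.As8.MJ

/-! Facts about `3⁴ : W(F₄)` (helper7). -/

set_option autoImplicit false
set_option maxRecDepth 1000000
set_option maxHeartbeats 0

namespace Cfsg.Lib.As8

open Cfsg.Lib.Calc Cfsg.Lib.Grp Cfsg.Lib.T2 Cfsg.Lib.T3

/-- a formula -/
def nj_zS_f : Fm := .all 2 40 [(.l 4, .l 4), (.l 12, .l 12), (.l 3, .l 3)] (.mem 6 (.l 40))

theorem nj_zS_ev : nj.eval nj_zS_f = true := by decide +kernel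

theorem nj_zS {G : Type*} [Group G] {γ : ℕ → G} {k : ℕ} {N : List W} (g : Gf nj γ k N)
    (e : tyB nj k N nj_zS_f = true := by decide +kernel) :
    ∀ e ∈ genW γ (nj.ws 2), e * γ 4 = γ 4 * e → e * γ 12 = γ 12 * e → e * γ 3 = γ 3 * e → e ∈ genW γ (nj.ws 6) :=
  g.transfer e nj_zS_ev

/-- a formula -/
def nj_sQ_f : Fm := .all 2 40 [] (.or (.mem 4 (.l 40)) (.or (.mem 4 (.mul (.l 40) (.l 3))) (.mem 4 (.mul (.l 40) (.inv (.l 3))))))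

theorem nj_sQ_ev : nj.eval nj_sQ_f = true := by decide +kernel

theorem nj_sQ {G : Type*} [Group G] {γ : ℕ → G} {k : ℕ} {N : List W} (g : Gf nj γ k N)
    (e : tyB nj k N nj_sQ_f = true := by decide +kernel) :
    ∀ e ∈ genW γ (nj.ws 2), e ∈ genW γ (nj.ws 4) ∨ e * γ 3 ∈ genW γ (nj.ws 4) ∨ e * (γ 3)⁻¹ ∈ genW γ (nj.ws 4) :=
  g.transfer e nj_sQ_ev

/-- a formula -/
def nj_cQ_f : Fm := .all 4 40 [] (.imp (.or (.mem 6 (.mul (.mul (.mul (.l 3) (.l 40)) (.inv (.l 3))) (.inv (.l 40)))) (.mem 6 (.mul (.mul (.mul (.inv (.l 3)) (.l 40)) (.inv (.inv (.l 3)))) (.inv (.l 40))))) (.mem 5 (.l 40)))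

theorem nj_cQ_ev : nj.eval nj_cQ_f = true := by decide +kernel

theorem nj_cQ {G : Type*} [Group G] {γ : ℕ → G} {k : ℕ} {N : List W} (g : Gf nj γ k N)
    (e : tyB nj k N nj_cQ_f = true := by decide +kernel) :
    ∀ q ∈ genW γ (nj.ws 4), γ 3 * q * (γ 3)⁻¹ * q⁻¹ ∈ genW γ (nj.ws 6) ∨ (γ 3)⁻¹ * q * (γ 3)⁻¹⁻¹ * q⁻¹ ∈ genW γ (nj.ws 6) → q ∈ genW γ (nj.ws 5) :=
  g.transfer e nj_cQ_ev

/-- a formula -/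
def nj_cJQ_f : Fm := .all 2 40 [(.mul (.mul (.l 1) (.l 2)) (.l 3), .mul (.mul (.l 1) (.l 2)) (.l 3)), (.mul (.l 1) (.inv (.l 3)), .mul (.l 1) (.inv (.l 3))), (.l 11, .l 11)] (.mem 1 (.l 40))

theorem nj_cJQ_ev : nj.eval nj_cJQ_f = true := by decide +kernel

theorem nj_cJQ {G : Type*} [Group G] {γ : ℕ → G} {k : ℕ} {N : List W} (g : Gf nj γ k N)
    (e : tyB nj k N nj_cJQ_f = true := by decide +kernel) :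
    ∀ e ∈ genW γ (nj.ws 2), e * (γ 1 * γ 2 * γ 3) = γ 1 * γ 2 * γ 3 * e → e * (γ 1 * (γ 3)⁻¹) = γ 1 * (γ 3)⁻¹ * e → e * γ 11 = γ 11 * e → e ∈ genW γ (nj.ws 1) :=
  g.transfer e nj_cJQ_ev

/-- a formula -/
def nj_cJ_f : Fm := .all 3 40 [(.l 1, .l 1), (.l 2, .l 2), (.l 3, .l 3), (.l 11, .l 11)] (.mem 1 (.l 40))

theorem nj_cJ_ev : nj.eval nj_cJ_f = true := by decide +kernel

theorem nj_cJ {G : Type*} [Group G] {γ : ℕ → G} {k : ℕ} {N : List W} (g : Gf nj γ k N)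
    (e : tyB nj k N nj_cJ_f = true := by decide +kernel) :
    ∀ e ∈ genW γ (nj.ws 3), e * γ 1 = γ 1 * e → e * γ 2 = γ 2 * e → e * γ 3 = γ 3 * e → e * γ 11 = γ 11 * e → e ∈ genW γ (nj.ws 1) :=
  g.transfer e nj_cJ_ev

/-- a formula -/
def nj_ex_f : Fm := .all 1 40 [] (.one (.pow (.l 40) 3))

theorem nj_ex_ev : nj.eval nj_ex_f = true := by decide +kernel

theorem nj_ex {G : Type*} [Group G] {γ : ℕ → G} {k : ℕ} {N : List W} (g : Gf nj γ k N)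
    (e : tyB nj k N nj_ex_f = true := by decide +kernel) :
    ∀ e ∈ genW γ (nj.ws 1), e ^ 3 = 1 :=
  g.transfer e nj_ex_ev

/-- a formula -/
def nj_jq_f : Fm := .all 1 40 [] (.imp (.mem 4 (.l 40)) (.mem 5 (.l 40)))

theorem nj_jq_ev : nj.eval nj_jq_f = true := by decide +kernel

theorem nj_jq {G : Type*} [Group G] {γ : ℕ → G} {k : ℕ} {N : List W} (g : Gf nj γ k N)
    (e : tyB nj k N nj_jq_f = true := by decide +kernel) :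
    ∀ e ∈ genW γ (nj.ws 1), e ∈ genW γ (nj.ws 4) → e ∈ genW γ (nj.ws 5) :=
  g.transfer e nj_jq_ev

/-- a formula -/
def nj_U1_f : Fm := .all 1 40 [] (.imp (.or (.mem 11 (.l 40)) (.or (.mem 12 (.l 40)) (.or (.mem 13 (.l 40)) (.mem 14 (.l 40))))) (.or (.mem 6 (.l 40)) (.or (.ex 15 41 [(.mul (.mul (.l 1) (.inv (.l 3))) (.l 11), .l 40)] (.tt)) (.or (.ex 15 41 [(.inv (.mul (.mul (.l 1) (.inv (.l 3))) (.l 11)), .l 40)] (.tt)) (.or (.ex 15 41 [(.mul (.l 3) (.mul (.mul (.l 1) (.l 2)) (.l 3)), .l 40)] (.tt)) (.ex 15 41 [(.inv (.mul (.l 3) (.mul (.mul (.l 1) (.l 2)) (.l 3))), .l 40)] (.tt)))))))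

theorem nj_U1_ev : nj.eval nj_U1_f = true := by decide +kernel

theorem nj_U1 {G : Type*} [Group G] {γ : ℕ → G} {k : ℕ} {N : List W} (g : Gf nj γ k N)
    (e : tyB nj k N nj_U1_f = true := by decide +kernel) :
    ∀ e ∈ genW γ (nj.ws 1), e ∈ genW γ (nj.ws 11) ∨ e ∈ genW γ (nj.ws 12) ∨ e ∈ genW γ (nj.ws 13) ∨ e ∈ genW γ (nj.ws 14) → e ∈ genW γ (nj.ws 6) ∨ (∃ k ∈ genW γ (nj.ws 15), k * (γ 1 * (γ 3)⁻¹ * γ 11) = e * k ∧ True) ∨ (∃ k ∈ genW γ (nj.ws 15), k * (γ 1 * (γ 3)⁻¹ * γ 11)⁻¹ = e * k ∧ True) ∨ (∃ k ∈ genW γ (nj.ws 15), k * (γ 3 * (γ 1 * γ 2 * γ 3)) = e * k ∧ True) ∨ (∃ k ∈ genW γ (nj.ws 15), k * (γ 3 * (γ 1 * γ 2 * γ 3))⁻¹ = e * k ∧ True) :=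
  g.transfer e nj_U1_ev

/-- a formula -/
def nj_U2_f : Fm := .all 1 40 [] (.or (.or (.mem 11 (.l 40)) (.or (.mem 12 (.l 40)) (.or (.mem 13 (.l 40)) (.mem 14 (.l 40))))) (.or (.and (.mem 4 (.l 40)) (.and (.not (.mem 6 (.l 40))) (.or (.eq (.mul (.mul (.l 5) (.l 40)) (.inv (.l 5))) (.l 40)) (.mem 6 (.mul (.mul (.mul (.l 5) (.l 40)) (.inv (.l 5))) (.l 40)))))) (.or (.ex 15 41 [(.l 3, .l 40)] (.tt)) (.or (.ex 15 41 [(.inv (.l 3), .l 40)] (.tt)) (.or (.ex 15 41 [(.mul (.l 3) (.inv (.mul (.mul (.l 1) (.l 2)) (.l 3))), .l 40)] (.tt)) (.ex 15 41 [(.inv (.mul (.l 3) (.inv (.mul (.mul (.l 1) (.l 2)) (.l 3)))), .l 40)] (.tt)))))))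

theorem nj_U2_ev : nj.eval nj_U2_f = true := by decide +kernel

theorem nj_U2 {G : Type*} [Group G] {γ : ℕ → G} {k : ℕ} {N : List W} (g : Gf nj γ k N)
    (e : tyB nj k N nj_U2_f = true := by decide +kernel) :
    ∀ e ∈ genW γ (nj.ws 1), (e ∈ genW γ (nj.ws 11) ∨ e ∈ genW γ (nj.ws 12) ∨ e ∈ genW γ (nj.ws 13) ∨ e ∈ genW γ (nj.ws 14)) ∨ e ∈ genW γ (nj.ws 4) ∧ e ∉ genW γ (nj.ws 6) ∧ (γ 5 * e * (γ 5)⁻¹ = e ∨ γ 5 * e * (γ 5)⁻¹ * e ∈ genW γ (nj.ws 6)) ∨ (∃ k ∈ genW γ (nj.ws 15), k * γ 3 = e * k ∧ True) ∨ (∃ k ∈ genW γ (nj.ws 15), k * (γ 3)⁻¹ = e * k ∧ True) ∨ (∃ k ∈ genW γ (nj.ws 15), k * (γ 3 * (γ 1 * γ 2 * γ 3)⁻¹) = e * k ∧ True) ∨ (∃ k ∈ genW γ (nj.ws 15), k * (γ 3 * (γ 1 * γ 2 * γ 3)⁻¹)⁻¹ = e * k ∧ True) :=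
  g.transfer e nj_U2_ev

/-- a formula -/
def nj_Q1_f : Fm := .all 5 40 [] (.or (.mem 6 (.l 40)) (.or (.and (.or (.mem 11 (.l 40)) (.or (.mem 12 (.l 40)) (.or (.mem 13 (.l 40)) (.mem 14 (.l 40))))) (.or (.ex 15 41 [(.mul (.mul (.l 1) (.inv (.l 3))) (.l 11), .l 40)] (.tt)) (.ex 15 41 [(.inv (.mul (.mul (.l 1) (.inv (.l 3))) (.l 11)), .l 40)] (.tt)))) (.and (.not (.or (.mem 11 (.l 40)) (.or (.mem 12 (.l 40)) (.or (.mem 13 (.l 40)) (.mem 14 (.l 40)))))) (.or (.eq (.mul (.mul (.l 5) (.l 40)) (.inv (.l 5))) (.l 40)) (.mem 6 (.mul (.mul (.mul (.l 5) (.l 40)) (.inv (.l 5))) (.l 40)))))))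

theorem nj_Q1_ev : nj.eval nj_Q1_f = true := by decide +kernel

theorem nj_Q1 {G : Type*} [Group G] {γ : ℕ → G} {k : ℕ} {N : List W} (g : Gf nj γ k N)
    (e : tyB nj k N nj_Q1_f = true := by decide +kernel) :
    ∀ e ∈ genW γ (nj.ws 5), e ∈ genW γ (nj.ws 6) ∨ (e ∈ genW γ (nj.ws 11) ∨ e ∈ genW γ (nj.ws 12) ∨ e ∈ genW γ (nj.ws 13) ∨ e ∈ genW γ (nj.ws 14)) ∧ ((∃ k ∈ genW γ (nj.ws 15), k * (γ 1 * (γ 3)⁻¹ * γ 11) = e * k ∧ True) ∨ (∃ k ∈ genW γ (nj.ws 15), k * (γ 1 * (γ 3)⁻¹ * γ 11)⁻¹ = e * k ∧ True)) ∨ ¬ (e ∈ genW γ (nj.ws 11) ∨ e ∈ genW γ (nj.ws 12) ∨ e ∈ genW γ (nj.ws 13) ∨ e ∈ genW γ (nj.ws 14)) ∧ (γ 5 * e * (γ 5)⁻¹ = e ∨ γ 5 * e * (γ 5)⁻¹ * e ∈ genW γ (nj.ws 6)) :=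
  g.transfer e nj_Q1_ev

/-- a formula -/
def nj_one3_f : Fm := .all 5 40 [] (.imp (.or (.mem 11 (.l 40)) (.or (.mem 12 (.l 40)) (.or (.mem 13 (.l 40)) (.mem 14 (.l 40))))) (.imp (.not (.mem 6 (.l 40))) (.all 5 41 [] (.or (.mem 6 (.l 41)) (.or (.mem 6 (.mul (.l 41) (.l 40))) (.or (.mem 6 (.mul (.l 41) (.inv (.l 40)))) (.or (.and (.or (.mem 11 (.l 41)) (.or (.mem 12 (.l 41)) (.or (.mem 13 (.l 41)) (.mem 14 (.l 41))))) (.and (.not (.mem 6 (.l 41))) (.and (.not (.or (.mem 11 (.mul (.l 41) (.l 40))) (.or (.mem 12 (.mul (.l 41) (.l 40))) (.or (.mem 13 (.mul (.l 41) (.l 40))) (.mem 14 (.mul (.l 41) (.l 40))))))) (.not (.or (.mem 11 (.mul (.l 41) (.inv (.l 40)))) (.or (.mem 12 (.mul (.l 41) (.inv (.l 40)))) (.or (.mem 13 (.mul (.l 41) (.inv (.l 40)))) (.mem 14 (.mul (.l 41) (.inv (.l 40)))))))))))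 (.or (.and (.or (.mem 11 (.mul (.l 41) (.l 40))) (.or (.mem 12 (.mul (.l 41) (.l 40))) (.or (.mem 13 (.mul (.l 41) (.l 40))) (.mem 14 (.mul (.l 41) (.l 40)))))) (.and (.not (.mem 6 (.mul (.l 41) (.l 40)))) (.and (.not (.or (.mem 11 (.l 41)) (.or (.mem 12 (.l 41)) (.or (.mem 13 (.l 41)) (.mem 14 (.l 41)))))) (.not (.or (.mem 11 (.mul (.l 41) (.inv (.l 40)))) (.or (.mem 12 (.mul (.l 41) (.inv (.l 40)))) (.or (.mem 13 (.mul (.l 41) (.inv (.l 40)))) (.mem 14 (.mul (.l 41) (.inv (.l 40))))))))))) (.and (.or (.mem 11 (.mul (.l 41) (.inv (.l 40)))) (.or (.mem 12 (.mul (.l 41) (.inv (.l 40)))) (.or (.mem 13 (.mul (.l 41) (.inv (.l 40)))) (.mem 14 (.mul (.l 41) (.inv (.l 40))))))) (.and (.not (.mem 6 (.mul (.l 41) (.inv (.l 40))))) (.and (.not (.or (.mem 11 (.l 41)) (.or (.mem 12 (.l 41))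 (.or (.mem 13 (.l 41)) (.mem 14 (.l 41)))))) (.not (.or (.mem 11 (.mul (.l 41) (.l 40))) (.or (.mem 12 (.mul (.l 41) (.l 40))) (.or (.mem 13 (.mul (.l 41) (.l 40))) (.mem 14 (.mul (.l 41) (.l 40))))))))))))))))))

theorem nj_one3_ev : nj.eval nj_one3_f = true := by decide +kernel

theorem nj_one3 {G : Type*} [Group G] {γ : ℕ → G} {k : ℕ} {N : List W} (g : Gf nj γ k N)
    (e : tyB nj k N nj_one3_f = true := by decide +kernel) :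
    ∀ e ∈ genW γ (nj.ws 5), e ∈ genW γ (nj.ws 11) ∨ e ∈ genW γ (nj.ws 12) ∨ e ∈ genW γ (nj.ws 13) ∨ e ∈ genW γ (nj.ws 14) → e ∉ genW γ (nj.ws 6) → ∀ s ∈ genW γ (nj.ws 5), s ∈ genW γ (nj.ws 6) ∨ s * e ∈ genW γ (nj.ws 6) ∨ s * e⁻¹ ∈ genW γ (nj.ws 6) ∨ (s ∈ genW γ (nj.ws 11) ∨ s ∈ genW γ (nj.ws 12) ∨ s ∈ genW γ (nj.ws 13) ∨ s ∈ genW γ (nj.ws 14)) ∧ s ∉ genW γ (nj.ws 6) ∧ ¬ (s * e ∈ genW γ (nj.ws 11) ∨ s * e ∈ genW γ (nj.ws 12) ∨ s * e ∈ genW γ (nj.ws 13) ∨ s * e ∈ genW γ (nj.ws 14)) ∧ ¬ (s * e⁻¹ ∈ genW γ (nj.ws 11) ∨ s * e⁻¹ ∈ genW γ (nj.ws 12) ∨ s * e⁻¹ ∈ genW γ (nj.ws 13) ∨ s * e⁻¹ ∈ genW γ (nj.ws 14)) ∨ (s * e ∈ genW γ (nj.ws 11) ∨ s * e ∈ genW γ (nj.ws 12) ∨ s * e ∈ genW γ (nj.ws 13) ∨ s * e ∈ genW γ (nj.ws 14)) ∧ s * e ∉ genW γ (nj.ws 6) ∧ ¬ (s ∈ genW γ (nj.ws 11) ∨ s ∈ genW γ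 (nj.ws 12) ∨ s ∈ genW γ (nj.ws 13) ∨ s ∈ genW γ (nj.ws 14)) ∧ ¬ (s * e⁻¹ ∈ genW γ (nj.ws 11) ∨ s * e⁻¹ ∈ genW γ (nj.ws 12) ∨ s * e⁻¹ ∈ genW γ (nj.ws 13) ∨ s * e⁻¹ ∈ genW γ (nj.ws 14)) ∨ (s * e⁻¹ ∈ genW γ (nj.ws 11) ∨ s * e⁻¹ ∈ genW γ (nj.ws 12) ∨ s * e⁻¹ ∈ genW γ (nj.ws 13) ∨ s * e⁻¹ ∈ genW γ (nj.ws 14)) ∧ s * e⁻¹ ∉ genW γ (nj.ws 6) ∧ ¬ (s ∈ genW γ (nj.ws 11) ∨ s ∈ genW γ (nj.ws 12) ∨ s ∈ genW γ (nj.ws 13) ∨ s ∈ genW γ (nj.ws 14)) ∧ ¬ (s * e ∈ genW γ (nj.ws 11) ∨ s * e ∈ genW γ (nj.ws 12) ∨ s * e ∈ genW γ (nj.ws 13) ∨ s * e ∈ genW γ (nj.ws 14)) :=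
  g.transfer e nj_one3_ev

/-- a formula -/
def nj_J7_f : Fm := .all 1 40 [] (.imp (.mem 10 (.mul (.mul (.mul (.mul (.l 12) (.l 4)) (.l 40)) (.inv (.mul (.l 12) (.l 4)))) (.inv (.l 40)))) (.mem 7 (.l 40)))

theorem nj_J7_ev : nj.eval nj_J7_f = true := by decide +kernel

theorem nj_J7 {G : Type*} [Group G] {γ : ℕ → G} {k : ℕ} {N : List W} (g : Gf nj γ k N)
    (e : tyB nj k N nj_J7_f = true := by decide +kernel) :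
    ∀ e ∈ genW γ (nj.ws 1), γ 12 * γ 4 * e * (γ 12 * γ 4)⁻¹ * e⁻¹ ∈ genW γ (nj.ws 10) → e ∈ genW γ (nj.ws 7) :=
  g.transfer e nj_J7_ev

/-- a formula -/
def nj_y_f : Fm := .all 1 40 [] (.imp (.mem 7 (.mul (.l 40) (.inv (.l 3)))) (.imp (.or (.mem 11 (.mul (.mul (.mul (.mul (.l 1) (.inv (.l 3))) (.l 11)) (.mul (.mul (.l 1) (.l 2)) (.l 3))) (.l 40))) (.or (.mem 12 (.mul (.mul (.mul (.mul (.l 1) (.inv (.l 3))) (.l 11)) (.mul (.mul (.l 1) (.l 2)) (.l 3))) (.l 40))) (.or (.mem 13 (.mul (.mul (.mul (.mul (.l 1) (.inv (.l 3))) (.l 11)) (.mul (.mul (.l 1) (.l 2)) (.l 3))) (.l 40))) (.mem 14 (.mul (.mul (.mul (.mul (.l 1) (.inv (.l 3))) (.l 11)) (.mul (.mul (.l 1) (.l 2)) (.l 3))) (.l 40)))))) (.imp (.or (.mem 11 (.mul (.mul (.mul (.mul (.mul (.l 1) (.inv (.l 3))) (.l 11)) (.mul (.mul (.l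 1) (.l 2)) (.l 3))) (.l 2)) (.l 40))) (.or (.mem 12 (.mul (.mul (.mul (.mul (.mul (.l 1) (.inv (.l 3))) (.l 11)) (.mul (.mul (.l 1) (.l 2)) (.l 3))) (.l 2)) (.l 40))) (.or (.mem 13 (.mul (.mul (.mul (.mul (.mul (.l 1) (.inv (.l 3))) (.l 11)) (.mul (.mul (.l 1) (.l 2)) (.l 3))) (.l 2)) (.l 40))) (.mem 14 (.mul (.mul (.mul (.mul (.mul (.l 1) (.inv (.l 3))) (.l 11)) (.mul (.mul (.l 1) (.l 2)) (.l 3))) (.l 2)) (.l 40)))))) (.imp (.or (.mem 11 (.mul (.mul (.mul (.inv (.mul (.mul (.mul (.l 1) (.inv (.l 3))) (.l 11)) (.mul (.mul (.l 1) (.l 2)) (.l 3)))) (.mul (.mul (.l 1) (.inv (.l 3))) (.l 11))) (.inv (.l 2))) (.l 40))) (.or (.mem 12 (.mul (.mul (.mul (.inv (.mul (.mul (.mul (.l 1) (.inv (.l 3))) (.l 11)) (.mul (.mul (.l 1) (.l 2)) (.l 3)))) (.mul (.mul (.l 1) (.inv (.l 3))) (.l 11)))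 (.inv (.l 2))) (.l 40))) (.or (.mem 13 (.mul (.mul (.mul (.inv (.mul (.mul (.mul (.l 1) (.inv (.l 3))) (.l 11)) (.mul (.mul (.l 1) (.l 2)) (.l 3)))) (.mul (.mul (.l 1) (.inv (.l 3))) (.l 11))) (.inv (.l 2))) (.l 40))) (.mem 14 (.mul (.mul (.mul (.inv (.mul (.mul (.mul (.l 1) (.inv (.l 3))) (.l 11)) (.mul (.mul (.l 1) (.l 2)) (.l 3)))) (.mul (.mul (.l 1) (.inv (.l 3))) (.l 11))) (.inv (.l 2))) (.l 40)))))) (.eq (.l 40) (.inv (.l 1)))))))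

theorem nj_y_ev : nj.eval nj_y_f = true := by decide +kernel

theorem nj_y {G : Type*} [Group G] {γ : ℕ → G} {k : ℕ} {N : List W} (g : Gf nj γ k N)
    (e : tyB nj k N nj_y_f = true := by decide +kernel) :
    ∀ v ∈ genW γ (nj.ws 1), v * (γ 3)⁻¹ ∈ genW γ (nj.ws 7) → γ 1 * (γ 3)⁻¹ * γ 11 * (γ 1 * γ 2 * γ 3) * v ∈ genW γ (nj.ws 11) ∨ γ 1 * (γ 3)⁻¹ * γ 11 * (γ 1 * γ 2 * γ 3) * v ∈ genW γ (nj.ws 12) ∨ γ 1 * (γ 3)⁻¹ * γ 11 * (γ 1 * γ 2 * γ 3) * v ∈ genW γ (nj.ws 13) ∨ γ 1 * (γ 3)⁻¹ * γ 11 * (γ 1 * γ 2 * γ 3) * v ∈ genW γ (nj.ws 14) → γ 1 * (γ 3)⁻¹ * γ 11 * (γ 1 * γ 2 * γ 3) * γ 2 * v ∈ genW γ (nj.ws 11) ∨ γ 1 * (γ 3)⁻¹ * γ 11 * (γ 1 * γ 2 * γ 3) * γ 2 * v ∈ genW γ (nj.ws 12) ∨ γ 1 * (γ 3)⁻¹ * γ 11 * (γ 1 * γ 2 * γ 3) * γ 2 * v ∈ genW γ (nj.ws 13) ∨ γ 1 * (γ 3)⁻¹ * γ 11 * (γ 1 * γ 2 *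 γ 3) * γ 2 * v ∈ genW γ (nj.ws 14) → (γ 1 * (γ 3)⁻¹ * γ 11 * (γ 1 * γ 2 * γ 3))⁻¹ * (γ 1 * (γ 3)⁻¹ * γ 11) * (γ 2)⁻¹ * v ∈ genW γ (nj.ws 11) ∨ (γ 1 * (γ 3)⁻¹ * γ 11 * (γ 1 * γ 2 * γ 3))⁻¹ * (γ 1 * (γ 3)⁻¹ * γ 11) * (γ 2)⁻¹ * v ∈ genW γ (nj.ws 12) ∨ (γ 1 * (γ 3)⁻¹ * γ 11 * (γ 1 * γ 2 * γ 3))⁻¹ * (γ 1 * (γ 3)⁻¹ * γ 11) * (γ 2)⁻¹ * v ∈ genW γ (nj.ws 13) ∨ (γ 1 * (γ 3)⁻¹ * γ 11 * (γ 1 * γ 2 * γ 3))⁻¹ * (γ 1 * (γ 3)⁻¹ * γ 11) * (γ 2)⁻¹ * v ∈ genW γ (nj.ws 14) → v = (γ 1)⁻¹ :=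
  g.transfer e nj_y_ev

/-- a formula -/
def nj_inv_f : Fm := .all 1 40 [] (.eq (.mul (.mul (.l 8) (.l 40)) (.inv (.l 8))) (.inv (.l 40)))

theorem nj_inv_ev : nj.eval nj_inv_f = true := by decide +kernel

theorem nj_inv {G : Type*} [Group G] {γ : ℕ → G} {k : ℕ} {N : List W} (g : Gf nj γ k N)
    (e : tyB nj k N nj_inv_f = true := by decide +kernel) :
    ∀ e ∈ genW γ (nj.ws 1), γ 8 * e * (γ 8)⁻¹ = e⁻¹ :=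
  g.transfer e nj_inv_ev

/-- a formula -/
def nj_tr_f : Fm := .all 1 40 [] (.imp (.or (.mem 11 (.l 40)) (.or (.mem 12 (.l 40)) (.or (.mem 13 (.l 40)) (.mem 14 (.l 40))))) (.or (.one (.l 40)) (.ex 16 41 [(.mul (.mul (.l 1) (.l 2)) (.l 3), .l 40)] (.tt))))

theorem nj_tr_ev : nj.eval nj_tr_f = true := by decide +kernel

theorem nj_tr {G : Type*} [Group G] {γ : ℕ → G} {k : ℕ} {N : List W} (g : Gf nj γ k N)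
    (e : tyB nj k N nj_tr_f = true := by decide +kernel) :
    ∀ e ∈ genW γ (nj.ws 1), e ∈ genW γ (nj.ws 11) ∨ e ∈ genW γ (nj.ws 12) ∨ e ∈ genW γ (nj.ws 13) ∨ e ∈ genW γ (nj.ws 14) → e = 1 ∨ (∃ k ∈ genW γ (nj.ws 16), k * (γ 1 * γ 2 * γ 3) = e * k ∧ True) :=
  g.transfer e nj_tr_ev

end Cfsg.Lib.As8
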