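import Cfsg.Agent.Lib.As8.MX
import Cfsg.Agent.Lib.Loc3.Gen6

/-! Facts about `2¹⁺⁸ : (S₃ × S₃ ≀ 2)` (helper7). -/

set_option autoImplicit false
set_option maxRecDepth 1000000
set_option maxHeartbeats 0

namespace Cfsg.Lib.As8

open Cfsg.Lib.Calc Cfsg.Lib.Grp Cfsg.Lib.T2 Cfsg.Lib.T3 Cfsg.Lib.Loc3
open Cfsg.Lib.T2.L (MJ)

/-- a formula -/
def x0_sq_f : Fm := .all 2 40 [] (.or (.one (.mul (.l 40) (.l 40))) (.eq (.mul (.l 40) (.l 40)) (.l 5)))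

theorem x0_sq_ev : x0.eval x0_sq_f = true := by decide +kernel

theorem x0_sq {G : Type*} [Group G] {γ : ℕ → G} {k : ℕ} {N : List W} (g : Gf x0 γ k N)
    (e : tyB x0 k N x0_sq_f = true := by decide +kernel) :
    ∀ g ∈ genW γ (x0.ws 2), g * g = 1 ∨ g * g = γ 5 :=
  g.transfer e x0_sq_ev

/-- a formula -/
def x0_cen_f : Fm := .all 1 40 [(.l 18, .l 18), (.mul (.mul (.l 3) (.l 18)) (.inv (.l 3)), .mul (.mul (.l 3) (.l 18)) (.inv (.l 3))), (.mul (.mul (.l 7) (.l 18)) (.inv (.l 7)), .mul (.mul (.l 7) (.l 18)) (.inv (.l 7))), (.mul (.mul (.mul (.mul (.l 7) (.l 3)) (.l 18)) (.inv (.l 3))) (.inv (.l 7)), .mul (.mul (.mul (.mul (.l 7) (.l 3)) (.l 18)) (.inv (.l 3))) (.inv (.l 7))), (.mul (.mul (.l 14) (.l 18)) (.inv (.l 14)), .mul (.mul (.l 14) (.l 18)) (.inv (.l 14))), (.mul (.mul (.mul (.mul (.l 14) (.l 3)) (.l 18)) (.inv (.l 3))) (.inv (.l 14)),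 .mul (.mul (.mul (.mul (.l 14) (.l 3)) (.l 18)) (.inv (.l 3))) (.inv (.l 14))), (.mul (.mul (.l 15) (.l 18)) (.inv (.l 15)), .mul (.mul (.l 15) (.l 18)) (.inv (.l 15))), (.mul (.mul (.mul (.mul (.l 15) (.l 3)) (.l 18)) (.inv (.l 3))) (.inv (.l 15)), .mul (.mul (.mul (.mul (.l 15) (.l 3)) (.l 18)) (.inv (.l 3))) (.inv (.l 15)))] (.or (.one (.l 40)) (.eq (.l 40) (.l 5)))

theorem x0_cen_ev : x0.eval x0_cen_f = true := by decide +kernel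

theorem x0_cen {G : Type*} [Group G] {γ : ℕ → G} {k : ℕ} {N : List W} (g : Gf x0 γ k N)
    (e : tyB x0 k N x0_cen_f = true := by decide +kernel) :
    ∀ g ∈ genW γ (x0.ws 1), g * γ 18 = γ 18 * g → g * (γ 3 * γ 18 * (γ 3)⁻¹) = γ 3 * γ 18 * (γ 3)⁻¹ * g → g * (γ 7 * γ 18 * (γ 7)⁻¹) = γ 7 * γ 18 * (γ 7)⁻¹ * g → g * (γ 7 * γ 3 * γ 18 * (γ 3)⁻¹ * (γ 7)⁻¹) = γ 7 * γ 3 * γ 18 * (γ 3)⁻¹ * (γ 7)⁻¹ * g → g * (γ 14 * γ 18 * (γ 14)⁻¹) = γ 14 * γ 18 * (γ 14)⁻¹ * g → g * (γ 14 * γ 3 * γ 18 * (γ 3)⁻¹ * (γ 14)⁻¹) = γ 14 * γ 3 * γ 18 * (γ 3)⁻¹ * (γ 14)⁻¹ * g → g * (γ 15 * γ 18 * (γ 15)⁻¹) = γ 15 * γ 18 * (γ 15)⁻¹ * g → g * (γ 15 * γ 3 * γ 18 * (γ 3)⁻¹ * (γ 15)⁻¹) = γ 15 * γ 3 * γ 18 * (γ 3)⁻¹ * (γ 15)⁻¹ * g → g = 1 ∨ g = γ 5 :=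
  g.transfer e x0_cen_ev

/-- a formula -/
def x0_i1_f : Fm := .all 21 40 [] (.imp (.mem 7 (.l 40)) (.mem 22 (.l 40)))

theorem x0_i1_ev : x0.eval x0_i1_f = true := by decide +kernel

theorem x0_i1 {G : Type*} [Group G] {γ : ℕ → G} {k : ℕ} {N : List W} (g : Gf x0 γ k N)
    (e : tyB x0 k N x0_i1_f = true := by decide +kernel) :
    ∀ h ∈ genW γ (x0.ws 21), h ∈ genW γ (x0.ws 7) → h ∈ genW γ (x0.ws 22) :=
  g.transfer e x0_i1_ev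

/-- a formula -/
def x0_c10_f : Fm := .all 0 40 [(.l 7, .l 7)] (.mem 10 (.l 40))

theorem x0_c10_ev : x0.eval x0_c10_f = true := by decide +kernel

theorem x0_c10 {G : Type*} [Group G] {γ : ℕ → G} {k : ℕ} {N : List W} (g : Gf x0 γ k N)
    (e : tyB x0 k N x0_c10_f = true := by decide +kernel) :
    ∀ g ∈ genW γ (x0.ws 0), g * γ 7 = γ 7 * g → g ∈ genW γ (x0.ws 10) :=
  g.transfer e x0_c10_ev

/-- a formula -/
def x0_c11_f : Fm := .all 0 40 [(.l 14, .l 14)] (.mem 11 (.l 40))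

theorem x0_c11_ev : x0.eval x0_c11_f = true := by decide +kernel

theorem x0_c11 {G : Type*} [Group G] {γ : ℕ → G} {k : ℕ} {N : List W} (g : Gf x0 γ k N)
    (e : tyB x0 k N x0_c11_f = true := by decide +kernel) :
    ∀ g ∈ genW γ (x0.ws 0), g * γ 14 = γ 14 * g → g ∈ genW γ (x0.ws 11) :=
  g.transfer e x0_c11_ev

/-- a formula -/
def x0_c12_f : Fm := .all 0 40 [(.mul (.l 7) (.l 14), .mul (.l 7) (.l 14))] (.mem 12 (.l 40))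

theorem x0_c12_ev : x0.eval x0_c12_f = true := by decide +kernel

theorem x0_c12 {G : Type*} [Group G] {γ : ℕ → G} {k : ℕ} {N : List W} (g : Gf x0 γ k N)
    (e : tyB x0 k N x0_c12_f = true := by decide +kernel) :
    ∀ g ∈ genW γ (x0.ws 0), g * (γ 7 * γ 14) = γ 7 * γ 14 * g → g ∈ genW γ (x0.ws 12) :=
  g.transfer e x0_c12_ev

/-- a formula -/
def x0_c13_f : Fm := .all 0 40 [(.mul (.l 14) (.l 15), .mul (.l 14) (.l 15))] (.mem 13 (.l 40))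

theorem x0_c13_ev : x0.eval x0_c13_f = true := by decide +kernel

theorem x0_c13 {G : Type*} [Group G] {γ : ℕ → G} {k : ℕ} {N : List W} (g : Gf x0 γ k N)
    (e : tyB x0 k N x0_c13_f = true := by decide +kernel) :
    ∀ g ∈ genW γ (x0.ws 0), g * (γ 14 * γ 15) = γ 14 * γ 15 * g → g ∈ genW γ (x0.ws 13) :=
  g.transfer e x0_c13_ev

/-- a formula -/
def x0_c14_f : Fm := .all 0 40 [(.mul (.mul (.l 7) (.l 14)) (.l 15), .mul (.mul (.l 7) (.l 14)) (.l 15))] (.mem 14 (.l 40))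

theorem x0_c14_ev : x0.eval x0_c14_f = true := by decide +kernel

theorem x0_c14 {G : Type*} [Group G] {γ : ℕ → G} {k : ℕ} {N : List W} (g : Gf x0 γ k N)
    (e : tyB x0 k N x0_c14_f = true := by decide +kernel) :
    ∀ g ∈ genW γ (x0.ws 0), g * (γ 7 * γ 14 * γ 15) = γ 7 * γ 14 * γ 15 * g → g ∈ genW γ (x0.ws 14) :=
  g.transfer e x0_c14_ev

/-- a formula -/
def x0_c15_f : Fm := .all 0 40 [(.mul (.l 13) (.l 7), .mul (.l 13) (.l 7))] (.mem 15 (.l 40))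

theorem x0_c15_ev : x0.eval x0_c15_f = true := by decide +kernel

theorem x0_c15 {G : Type*} [Group G] {γ : ℕ → G} {k : ℕ} {N : List W} (g : Gf x0 γ k N)
    (e : tyB x0 k N x0_c15_f = true := by decide +kernel) :
    ∀ g ∈ genW γ (x0.ws 0), g * (γ 13 * γ 7) = γ 13 * γ 7 * g → g ∈ genW γ (x0.ws 15) :=
  g.transfer e x0_c15_ev

/-- a formula -/
def x0_c16_f : Fm := .all 0 40 [(.mul (.mul (.mul (.mul (.l 18) (.l 7)) (.l 18)) (.inv (.l 7))) (.l 13), .mul (.mul (.mul (.mul (.l 18) (.l 7)) (.l 18)) (.inv (.l 7))) (.l 13))] (.mem 16 (.l 40))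

theorem x0_c16_ev : x0.eval x0_c16_f = true := by decide +kernel

theorem x0_c16 {G : Type*} [Group G] {γ : ℕ → G} {k : ℕ} {N : List W} (g : Gf x0 γ k N)
    (e : tyB x0 k N x0_c16_f = true := by decide +kernel) :
    ∀ g ∈ genW γ (x0.ws 0), g * (γ 18 * γ 7 * γ 18 * (γ 7)⁻¹ * γ 13) = γ 18 * γ 7 * γ 18 * (γ 7)⁻¹ * γ 13 * g → g ∈ genW γ (x0.ws 16) :=
  g.transfer e x0_c16_ev

end Cfsg.Lib.As8
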