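import Cfsg.Agent.Lib.As8.MX
import Cfsg.Agent.Lib.Loc3.Gen6

/-! Involutions in `2¹⁺⁸ : (S₃ × S₃ ≀ 2)` (helper7). -/

set_option autoImplicit false
set_option maxRecDepth 1000000
set_option maxHeartbeats 0

namespace Cfsg.Lib.As8

open Cfsg.Lib.Calc Cfsg.Lib.Grp Cfsg.Lib.T2 Cfsg.Lib.T3 Cfsg.Lib.Loc3
open Cfsg.Lib.T2.L (MJ)

/-- a decision tree -/
def x0_T0_T : DT := .node [7] (.node [14] (.node [15] (.node [18, 7, 18] (.node [18, 14, 18] (.leaf [(12, []), (12, [18]), (12, [16, 18, 14, 18, 7, 18, 14, 18, 16]), (12, [16, 18, 7, 18, 14, 18, 7, 16, 18, 16])])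
  (.node [16] (.leaf [(10, []), (11, [])])
  (.node [3] (.leaf [(0, []), (1, [])])
  (.node [3, 18, 3] (.leaf [(0, [18, 14, 18]), (1, [18, 14, 18])])
  (.leaf [(10, [18, 14, 18]), (11, [18, 14, 18])])))))
  (.node [18, 14, 18] (.node [16] (.leaf [(2, []), (3, [])])
  (.node [3, 11] (.leaf [(8, []), (9, [])])
  (.leaf [(2, [18, 7, 18]), (8, [18, 7, 18]), (3, [18, 7, 18]), (9, [18, 7, 18])])))
  (.node [16] (.leaf [(4, []), (5, [])])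
  (.node [3, 3, 11] (.leaf [(6, []), (7, [])])
  (.leaf [(6, [18, 7, 18]), (4, [18, 7, 18]), (7, [18, 7, 18]), (5, [18, 7, 18])])))))
  (.node [18, 7, 18] (.node [3, 18] (.leaf [(0, [16, 18, 14, 18, 16, 16]), (1, [16, 18, 14, 18, 16, 16])])
  (.leaf [(0, [3, 18, 14, 3, 18]), (1, [3, 18, 14, 3, 18])]))
  (.node [18, 14, 18] (.leaf [(2, [16, 18, 15, 16, 18]), (2, [18, 16, 18, 7, 18]), (3, [16, 18, 15, 16, 18]), (3, [18, 16, 18, 7, 18])])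
  (.leaf [(6, [3, 18, 14, 3, 18]), (7, [3, 18, 14, 3, 18]), (6, [16, 18, 14, 18, 16, 16]), (7, [16, 18, 14, 18, 16, 16])]))))
  (.node [15] (.node [3, 11, 14] (.node [3, 18] (.leaf [(0, [16, 18, 15, 18, 16, 16]), (1, [16, 18, 15, 18, 16, 16])])
  (.node [18, 14, 18] (.leaf [(4, [16, 18, 14, 16, 18]), (5, [16, 18, 14, 16, 18])])
  (.leaf [(8, [16, 18, 15, 18, 16, 16]), (9, [16, 18, 15, 18, 16, 16])])))
  (.node [18, 3] (.leaf [(0, [3, 18, 15, 3, 18]), (1, [3, 18, 15, 3, 18])])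
  (.node [18, 14, 18] (.leaf [(4, [3, 18, 7, 18, 11]), (5, [3, 18, 7, 18, 11])])
  (.leaf [(8, [3, 18, 7, 18, 11]), (9, [3, 18, 7, 18, 11])]))))
  (.node [14, 15] (.node [18, 14, 18] (.node [3] (.leaf [(1, [14, 18]), (0, [14, 18])])
  (.node [11] (.leaf [(1, [18]), (0, [18])])
  (.node [16, 18, 16] (.leaf [(10, [18]), (11, [18])])
  (.leaf [(10, [14, 18]), (11, [14, 18])]))))
  (.leaf [(12, [16, 18, 7, 18, 16]), (12, [11, 14, 18, 7, 18, 3]), (12, [18, 16, 18, 7, 18, 16]), (12, [14, 16, 18, 7, 18, 16])]))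
  (.node [14, 15, 18] (.node [11] (.node [3, 18] (.leaf [(1, [3, 3, 18]), (0, [3, 3, 18])])
  (.leaf [(1, [3, 18]), (0, [3, 18])]))
  (.node [3, 18] (.leaf [(0, [15, 18, 14, 3, 18]), (1, [15, 18, 14, 3, 18])])
  (.leaf [(0, [3, 18, 14, 18]), (1, [3, 18, 14, 18])])))
  (.node [3] (.node [11, 14, 15] (.leaf [(1, [14, 3, 18]), (0, [14, 3, 18])])
  (.leaf [(1, [15, 3, 18]), (0, [15, 3, 18])]))
  (.node [3, 11, 14] (.leaf [(0, [18, 15, 3, 18]), (1, [18, 15, 3, 18])])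
  (.leaf [(0, [18, 14, 3, 18]), (1, [18, 14, 3, 18])])))))))
  (.node [14] (.node [15] (.node [16, 7] (.node [18, 7, 18] (.node [18, 14, 18] (.leaf [(2, [16, 16, 18, 7, 18]), (3, [16, 16, 18, 7, 18])])
  (.leaf [(4, [16, 16, 18, 7, 18]), (5, [16, 16, 18, 7, 18])]))
  (.leaf [(10, [16, 16, 18, 14, 18]), (11, [16, 16, 18, 14, 18])]))
  (.node [18, 7, 18] (.node [18, 14, 18] (.leaf [(2, [16, 18, 7, 18]), (3, [16, 18, 7, 18])])
  (.leaf [(4, [16, 18, 7, 18]), (5, [16, 18, 7, 18])]))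
  (.leaf [(10, [16, 18, 14, 18]), (11, [16, 18, 14, 18])])))
  (.node [7, 15] (.node [18, 7, 18] (.node [16, 18, 16] (.leaf [(3, [18]), (2, [18])])
  (.leaf [(8, [18]), (9, [18]), (3, [7, 18]), (8, [7, 18]), (2, [7, 18]), (9, [7, 18])]))
  (.leaf [(12, [16, 18, 14, 18, 16, 16]), (12, [16, 7, 18, 14, 18, 16]), (12, [16, 18, 14, 16, 18, 16]), (12, [7, 16, 18, 14, 16, 18, 16])]))
  (.node [7, 15, 18] (.node [16, 7] (.leaf [(2, [16, 18, 7, 16, 18]), (3, [16, 18, 7, 16, 18])])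
  (.node [16, 18] (.leaf [(3, [16, 16, 18]), (2, [16, 16, 18])])
  (.node [7, 16] (.leaf [(3, [15, 18, 7, 16, 18]), (2, [15, 18, 7, 16, 18])])
  (.leaf [(2, [16, 18]), (3, [16, 18])]))))
  (.node [16, 7] (.leaf [(3, [18, 15, 16, 18]), (2, [18, 15, 16, 18])])
  (.node [7, 16] (.leaf [(2, [18, 7, 16, 18]), (3, [18, 7, 16, 18])])
  (.node [16, 7, 15] (.leaf [(2, [7, 16, 18]), (3, [7, 16, 18])])
  (.leaf [(3, [15, 16, 18]), (2, [15, 16, 18])])))))))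
  (.node [7, 14] (.node [15] (.node [18, 7, 18] (.node [16, 3, 11] (.leaf [(5, [18]), (4, [18])])
  (.leaf [(6, [18]), (7, [18]), (5, [7, 18]), (6, [7, 18]), (4, [7, 18]), (7, [7, 18])]))
  (.leaf [(12, [16, 18, 15, 18, 16, 16]), (12, [16, 7, 18, 15, 18, 16]), (12, [16, 18, 15, 16, 18, 16]), (12, [7, 16, 18, 15, 16, 18, 16])]))
  (.node [7, 15] (.node [18, 7, 18] (.node [18, 14, 18] (.leaf [(7, [16, 18, 7, 18, 16]), (6, [16, 18, 7, 18, 16]), (7, [7, 16, 18, 7, 18, 16]), (6, [7, 16, 18, 7, 18, 16])])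
  (.leaf [(9, [16, 18, 7, 18, 16]), (8, [16, 18, 7, 18, 16]), (9, [7, 16, 18, 7, 18, 16]), (8, [7, 16, 18, 7, 18, 16])]))
  (.leaf [(11, [18, 16, 18, 14, 18]), (11, [16, 18, 14, 16, 18]), (10, [18, 16, 18, 14, 18]), (10, [16, 18, 14, 16, 18])]))
  (.node [15, 18] (.leaf [(6, [16, 16, 18, 16]), (7, [16, 16, 18, 16]), (7, [16, 18, 16, 16]), (6, [16, 18, 16, 16]), (7, [16, 18, 7, 16, 18]), (6, [16, 18, 7, 16, 18]), (6, [3, 18, 14, 18, 3]), (7, [3, 18, 14, 18, 3])])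
  (.leaf [(6, [16, 7, 18, 16]), (7, [16, 7, 18, 16]), (7, [11, 14, 18, 3]), (6, [11, 14, 18, 3]), (7, [18, 11, 14, 18, 3]), (6, [18, 11, 14, 18, 3]), (6, [18, 16, 7, 18, 16]), (7, [18, 16, 7, 18, 16])]))))
  (.node [15] (.node [7, 14, 18] (.node [16, 3, 11] (.node [16, 18] (.leaf [(5, [3, 18, 11]), (4, [3, 18, 11])])
  (.leaf [(4, [16, 18]), (5, [16, 18])]))
  (.node [16, 7] (.leaf [(4, [16, 18, 7, 16, 18]), (5, [16, 18, 7, 16, 18])])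
  (.leaf [(5, [3, 18, 14, 18, 11]), (4, [3, 18, 14, 18, 11])])))
  (.node [16, 7] (.leaf [(5, [18, 14, 16, 18]), (4, [18, 14, 16, 18])])
  (.node [7, 16] (.leaf [(4, [18, 7, 16, 18]), (5, [18, 7, 16, 18])])
  (.node [16, 7, 14] (.leaf [(4, [7, 16, 18]), (5, [7, 16, 18])])
  (.leaf [(5, [14, 16, 18]), (4, [14, 16, 18])])))))
  (.node [7, 15] (.node [14, 18] (.node [3, 11, 14] (.leaf [(9, [16, 18, 16, 16]), (8, [16, 18, 16, 16])])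
  (.node [11, 18, 3] (.leaf [(8, [3, 18, 11]), (9, [3, 18, 11])])
  (.leaf [(9, [16, 18, 7, 16, 18]), (8, [16, 18, 7, 16, 18]), (8, [3, 18, 15, 18, 3]), (9, [3, 18, 15, 18, 3])])))
  (.node [3, 11, 14] (.leaf [(9, [7, 16, 18, 16, 16]), (8, [7, 16, 18, 16, 16])])
  (.node [14, 3, 11] (.leaf [(8, [16, 7, 18, 16]), (9, [16, 7, 18, 16])])
  (.leaf [(8, [18, 16, 7, 18, 16]), (9, [18, 16, 7, 18, 16]), (9, [18, 7, 16, 18, 16, 16]), (8, [18, 7, 16, 18, 16, 16])]))))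
  (.node [14, 15] (.node [7, 18] (.node [16, 7] (.leaf [(11, [16, 16, 18]), (10, [16, 16, 18])])
  (.node [7, 16] (.leaf [(10, [16, 18]), (11, [16, 18])])
  (.node [16, 7, 14] (.leaf [(10, [14, 18, 14, 16, 18]), (11, [14, 18, 14, 16, 18])])
  (.leaf [(11, [3, 18, 14, 18, 11]), (10, [3, 18, 14, 18, 11])]))))
  (.node [16, 7] (.leaf [(11, [14, 16, 16, 18]), (10, [14, 16, 16, 18])])
  (.node [7, 16] (.leaf [(10, [14, 16, 18]), (11, [14, 16, 18])])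
  (.node [16, 7, 14] (.leaf [(10, [18, 14, 16, 18]), (11, [18, 14, 16, 18])])
  (.leaf [(11, [18, 14, 16, 16, 18]), (10, [18, 14, 16, 16, 18])])))))
  (.leaf [(12, [16, 16, 18, 16]), (12, [16, 7, 18, 16]), (12, [16, 18, 16, 16]), (12, [11, 14, 18, 3]), (12, [7, 16, 18, 16, 16]), (12, [14, 16, 16, 18, 16]), (12, [15, 16, 16, 18, 16]), (12, [15, 16, 18, 16, 16]), (12, [16, 18, 14, 18, 7, 18, 16]), (12, [16, 18, 7, 18, 14, 18, 16]), (12, [16, 18, 7, 18, 15, 18, 16]), (12, [14, 16, 18, 7, 18, 14, 18, 16]), (12, [7, 16, 18, 14, 18, 7, 18, 16]), (12, [18, 16, 18, 14, 18, 7, 18, 16]), (12, [16, 18, 15, 18, 14, 16, 18, 16]), (12, [16, 18, 14, 18, 15, 16, 18, 16])]))))))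

/-- a formula -/
def x0_T0_f : Fm := .all 5 40 [] (.imp (.one (.mul (.l 40) (.l 40))) (.or (.mem 2 (.l 40)) (dtF [(.l 7, .l 40), (.mul (.l 5) (.l 7), .l 40), (.l 14, .l 40), (.mul (.l 5) (.l 14), .l 40), (.l 15, .l 40), (.mul (.l 5) (.l 15), .l 40), (.mul (.l 7) (.l 14), .l 40), (.mul (.l 5) (.mul (.l 7) (.l 14)), .l 40), (.mul (.l 7) (.l 15), .l 40), (.mul (.l 5) (.mul (.l 7) (.l 15)), .l 40), (.mul (.l 14) (.l 15), .l 40), (.mul (.l 5) (.mul (.l 14) (.l 15)), .l 40), (.mul (.mul (.l 14) (.l 15)) (.l 7), .l 40)] (.l 40) x0_T0_T)))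

theorem x0_T0_ev : x0.eval x0_T0_f = true := by decide +kernel

theorem x0_T0 {G : Type*} [Group G] {γ : ℕ → G} {k : ℕ} {N : List W} (g : Gf x0 γ k N)
    (e : tyB x0 k N x0_T0_f = true := by decide +kernel) :
    ∀ h ∈ genW γ (x0.ws 5), h * h = 1 → h ∈ genW γ (x0.ws 2) ∨ MJ (genW γ (x0.ws 1)) (γ 7) (h) ∨ MJ (genW γ (x0.ws 1)) (γ 5 * γ 7) (h) ∨ MJ (genW γ (x0.ws 1)) (γ 14) (h) ∨ MJ (genW γ (x0.ws 1)) (γ 5 * γ 14) (h) ∨ MJ (genW γ (x0.ws 1)) (γ 15) (h) ∨ MJ (genW γ (x0.ws 1)) (γ 5 * γ 15) (h) ∨ MJ (genW γ (x0.ws 1)) (γ 7 * γ 14) (h) ∨ MJ (genW γ (x0.ws 1)) (γ 5 * (γ 7 * γ 14)) (h) ∨ MJ (genW γ (x0.ws 1)) (γ 7 * γ 15) (h) ∨ MJ (genW γ (x0.ws 1)) (γ 5 * (γ 7 * γ 15)) (h) ∨ MJ (genW γ (x0.ws 1)) (γ 14 * γ 15) (h) ∨ MJ (genW γ (x0.ws 1)) (γ 5 * (γ 14 * γ 15)) (h) ∨ MJ (genW γ (x0.ws 1)) (γ 14 * γ 15 * γ 7) (h) :=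
  fun y a b => (g.transfer e x0_T0_ev y a b).imp_right fun h => by
  obtain ⟨q, m, h⟩ := dt_mj h g.zero (x0.ws 1)
  simp only [List.mem_cons, List.not_mem_nil, or_false] at m
  rcases m with rfl | rfl | rfl | rfl | rfl | rfl | rfl | rfl | rfl | rfl | rfl | rfl | rfl
  exacts [.inl h, .inr (.inl h), .inr (.inr (.inl h)), .inr (.inr (.inr (.inl h))), .inr (.inr (.inr (.inr (.inl h)))), .inr (.inr (.inr (.inr (.inr (.inl h))))), .inr (.inr (.inr (.inr (.inr (.inr (.inl h)))))), .inr (.inr (.inr (.inr (.inr (.inr (.inr (.inl h))))))), .inr (.inr (.inr (.inr (.inr (.inr (.inr (.inr (.inl h)))))))), .inr (.inr (.inr (.inr (.inr (.inr (.inr (.inr (.inr (.inl h))))))))), .inr (.inr (.inr (.inr (.inr (.inr (.inr (.inr (.inr (.inr (.inl h)))))))))), .inr (.inr (.inr (.inr (.inr (.inr (.inr (.inr (.inr (.inr (.inr (.inl h))))))))))), .inr (.inr (.inr (.inr (.inr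 (.inr (.inr (.inr (.inr (.inr (.inr (.inr (h))))))))))))]

/-- a decision tree -/
def x0_Q_T : DT := .node [18] (.node [7, 18, 7] (.node [3] (.node [7] (.node [13] (.node [16] (.leaf [(0, [])])
  (.leaf [(1, [14]), (1, [11, 14, 18, 3])]))
  (.node [11, 13] (.leaf [(1, [14, 3]), (1, [14, 18, 3])])
  (.leaf [(1, [15, 3]), (1, [15, 18, 3])])))
  (.node [16, 7] (.node [13] (.leaf [(1, [14, 16, 16]), (1, [14, 18, 16, 16])])
  (.node [11, 13] (.leaf [(1, [14, 3, 16, 16]), (1, [14, 18, 3, 16, 16])])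
  (.leaf [(1, [15, 3, 16, 16]), (1, [15, 18, 3, 16, 16])])))
  (.node [13] (.leaf [(1, [14, 16]), (1, [14, 18, 16])])
  (.node [11, 13] (.leaf [(1, [14, 3, 16]), (1, [14, 3, 18, 16])])
  (.leaf [(1, [15, 3, 16]), (1, [15, 3, 18, 16])])))))
  (.node [14, 15, 13] (.node [7] (.node [13] (.node [11] (.leaf [(1, []), (1, [16, 18, 16, 16])])
  (.leaf [(3, []), (3, [16, 18, 16, 16])]))
  (.node [11, 13] (.leaf [(3, [14, 3]), (3, [14, 18, 3])])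
  (.leaf [(3, [11]), (3, [15, 18, 3])])))
  (.node [13] (.node [16, 7, 14] (.leaf [(4, [16, 16]), (4, [16, 18, 16])])
  (.leaf [(4, [14, 16]), (4, [14, 18, 16])]))
  (.node [11, 13] (.node [14, 18, 14] (.leaf [(4, [11, 11, 16, 16]), (4, [14, 7, 18, 3, 16])])
  (.leaf [(4, [14, 3, 16]), (4, [14, 18, 3, 16])]))
  (.node [14, 18, 14] (.leaf [(4, [15, 3, 16]), (4, [15, 18, 3, 16])])
  (.leaf [(4, [11, 16, 16]), (4, [16, 18, 11, 16])])))))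
  (.node [7, 14, 15] (.node [14] (.leaf [(2, []), (2, [7]), (2, [16, 18, 16, 16]), (2, [16, 7, 18, 16])])
  (.node [16, 3, 11] (.leaf [(2, [13]), (2, [13, 16, 18, 16, 16])])
  (.leaf [(2, [13, 7]), (2, [13, 16, 7, 18, 16])])))
  (.node [14, 18, 14] (.node [16, 3, 11] (.node [16, 7, 14] (.leaf [(2, [13, 11]), (2, [13, 3, 18, 16])])
  (.leaf [(2, [11, 13]), (2, [13, 14, 18, 3])]))
  (.node [16, 3, 14] (.leaf [(2, [15, 3, 3]), (2, [15, 18, 3, 3])])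
  (.leaf [(2, [15, 3]), (2, [15, 18, 3])])))
  (.node [16, 3, 15] (.leaf [(2, [11, 13, 7]), (2, [14, 11, 13, 18, 16])])
  (.node [16, 11, 14] (.leaf [(2, [14, 3]), (2, [14, 18, 3])])
  (.node [16, 11, 15] (.leaf [(2, [13, 15, 3]), (2, [13, 15, 18, 3])])
  (.leaf [(2, [11]), (2, [3, 18, 16])]))))))))
  (.node [14, 18, 14] (.node [15, 18, 15] (.node [13] (.node [11] (.node [16, 7] (.leaf [(1, [3, 3, 16, 16]), (1, [3, 18, 3, 16, 16])])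
  (.leaf [(1, [3, 16]), (1, [3, 18, 16])]))
  (.node [3, 14, 15] (.leaf [(4, [3, 3, 16]), (4, [3, 18, 3, 16])])
  (.leaf [(4, [7, 3, 16]), (4, [7, 18, 3, 16])])))
  (.node [16, 3, 14] (.leaf [(2, [7, 3, 3]), (2, [7, 18, 3, 3])])
  (.node [16, 3, 15] (.leaf [(2, [14, 11, 13]), (2, [11, 13, 7, 18, 16])])
  (.node [16, 11, 15] (.leaf [(2, [13, 7, 3]), (2, [13, 7, 18, 3])])
  (.leaf [(2, [7, 3]), (2, [7, 18, 3])])))))
  (.node [14] (.node [16, 7] (.leaf [(3, [11, 3, 3, 16, 16]), (3, [3, 18, 11, 3, 16, 16])])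
  (.node [11, 13] (.leaf [(3, [11, 11, 3, 16]), (3, [3, 18, 14, 3, 16])])
  (.node [16, 7, 15] (.leaf [(2, [7, 16]), (2, [7, 18, 16])])
  (.leaf [(2, [15, 16]), (2, [15, 18, 16])]))))
  (.node [11, 13] (.leaf [(4, [14, 11, 3]), (4, [14, 3, 18, 11])])
  (.node [13, 11] (.leaf [(4, [11, 3]), (4, [3, 18, 11])])
  (.node [16, 3, 14] (.leaf [(2, [7, 11, 3]), (2, [7, 18, 11, 3])])
  (.leaf [(2, [7, 11, 16]), (2, [7, 18, 11, 16])]))))))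
  (.node [15, 18, 15] (.node [15] (.node [16, 7] (.leaf [(3, [14, 11, 3, 16, 16]), (3, [14, 18, 11, 3, 16, 16])])
  (.node [7, 16] (.leaf [(3, [11, 3, 16]), (3, [3, 18, 11, 16])])
  (.node [16, 7, 14] (.leaf [(2, [13, 7, 16]), (2, [13, 7, 18, 16])])
  (.leaf [(2, [13, 15, 16]), (2, [13, 15, 18, 16])]))))
  (.node [11, 13] (.leaf [(4, [11, 11, 3]), (4, [3, 18, 11, 11])])
  (.node [13, 11] (.leaf [(4, [11, 14, 11]), (4, [11, 14, 18, 11])])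
  (.node [16, 3, 15] (.leaf [(2, [11, 13, 15, 16]), (2, [11, 13, 15, 18, 16])])
  (.leaf [(2, [13, 7, 11, 16]), (2, [13, 7, 18, 11, 16])])))))
  (.node [13] (.node [3, 14, 15] (.node [16, 7] (.leaf [(3, [3, 3, 16, 16]), (3, [3, 18, 3, 16, 16])])
  (.leaf [(4, [14, 11]), (4, [14, 18, 11])]))
  (.node [7, 16] (.leaf [(3, [3, 16]), (3, [3, 18, 16])])
  (.leaf [(4, [3]), (4, [3, 18])])))
  (.node [11, 13] (.node [16, 7, 14] (.leaf [(4, [3, 14, 3, 16, 16]), (4, [3, 18, 14, 3, 16, 16])])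
  (.leaf [(4, [11, 11, 3, 3, 16]), (4, [3, 18, 11, 11, 3, 16])]))
  (.node [16, 7, 15] (.leaf [(4, [7, 11, 3, 16]), (4, [7, 18, 11, 3, 16])])
  (.leaf [(4, [11, 3, 3, 16]), (4, [3, 18, 11, 3, 16])])))))))
  (.node [13] (.node [14, 18, 14] (.node [11] (.node [7] (.node [3, 14, 15] (.leaf [(1, [3, 3]), (1, [18, 3, 3])])
  (.leaf [(1, [3]), (1, [18, 3])]))
  (.node [16, 7] (.node [14, 15] (.leaf [(1, [16, 16]), (1, [18, 16, 16])])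
  (.leaf [(1, [3, 16, 16]), (1, [18, 3, 16, 16])]))
  (.node [14, 15] (.leaf [(1, [16]), (1, [18, 16])])
  (.leaf [(1, [3, 3, 16]), (1, [18, 3, 3, 16])]))))
  (.node [7] (.node [3, 11, 14] (.leaf [(3, [3]), (3, [18, 3])])
  (.leaf [(3, [3, 3]), (3, [18, 3, 3])]))
  (.node [14, 15] (.node [16, 7, 14] (.leaf [(4, [7, 16]), (4, [18, 7, 16])])
  (.leaf [(4, [16]), (4, [18, 16])]))
  (.node [3, 14, 15] (.leaf [(4, [14, 11, 16, 16]), (4, [18, 14, 11, 16, 16])])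
  (.leaf [(4, [3, 16]), (4, [18, 3, 16])])))))
  (.node [14, 15] (.node [14] (.node [16, 7] (.leaf [(3, [16, 16]), (3, [18, 16, 16])])
  (.leaf [(3, [16]), (3, [18, 16])]))
  (.leaf [(4, []), (4, [18]), (4, [7]), (4, [18, 7])]))
  (.node [3, 14, 15] (.node [7, 18, 7] (.node [7, 16] (.leaf [(3, [3, 3, 16]), (3, [18, 3, 3, 16])])
  (.leaf [(4, [3, 3]), (4, [18, 3, 3])]))
  (.leaf [(4, [14, 11, 16]), (4, [3, 3, 16, 16]), (4, [18, 14, 11, 16]), (4, [18, 3, 3, 16, 16])]))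
  (.node [7, 18, 7] (.node [16, 7] (.leaf [(3, [3, 16, 16]), (3, [18, 3, 16, 16])])
  (.leaf [(4, [7, 3]), (4, [18, 7, 3])]))
  (.leaf [(4, [3, 16, 16]), (4, [15, 11, 16]), (4, [18, 15, 11, 16]), (4, [18, 3, 16, 16])])))))
  (.node [7, 18, 7] (.node [14, 18, 14] (.node [15] (.node [16, 3, 11] (.node [16, 7, 14] (.leaf [(2, [13, 16, 16]), (2, [13, 18, 16, 16])])
  (.leaf [(2, [13, 16]), (2, [13, 18, 16])]))
  (.node [16, 7] (.leaf [(3, [11, 3, 16, 16]), (3, [18, 11, 3, 16, 16])])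
  (.leaf [(3, [14, 11, 3, 16]), (3, [18, 14, 11, 3, 16])])))
  (.node [7, 14] (.node [16, 3, 11] (.leaf [(2, [13, 11, 3]), (2, [13, 11, 16]), (2, [13, 18, 11, 3]), (2, [13, 18, 11, 16])])
  (.node [11, 13] (.leaf [(4, [3, 14, 3]), (4, [18, 3, 14, 3])])
  (.leaf [(4, [11, 3, 3]), (4, [18, 11, 3, 3])])))
  (.node [16, 3, 11] (.node [16, 7, 14] (.leaf [(2, [11, 13, 16]), (2, [11, 13, 18, 16])])
  (.leaf [(2, [13, 3]), (2, [13, 18, 3])]))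
  (.node [16, 11, 14] (.leaf [(2, [3, 3]), (2, [18, 3, 3])])
  (.leaf [(2, [3]), (2, [18, 3])])))))
  (.node [14] (.node [16, 7] (.leaf [(3, [11, 11, 3, 16, 16]), (3, [18, 11, 11, 3, 16, 16])])
  (.node [7, 16] (.leaf [(3, [11, 3, 3, 16]), (3, [18, 11, 3, 3, 16])])
  (.node [16, 7, 15] (.leaf [(2, [16, 16]), (2, [18, 16, 16])])
  (.leaf [(2, [16]), (2, [18, 16])]))))
  (.node [7, 15] (.node [11, 13] (.leaf [(4, [11, 11, 3, 3]), (4, [18, 11, 11, 3, 3])])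
  (.node [13, 11] (.leaf [(4, [7, 11, 3]), (4, [18, 7, 11, 3])])
  (.node [16, 11, 14] (.leaf [(2, [11, 3]), (2, [18, 11, 3])])
  (.leaf [(2, [11, 16]), (2, [18, 11, 16])]))))
  (.node [11, 13] (.node [16, 7, 15] (.leaf [(4, [14, 11, 3, 16, 16]), (4, [18, 14, 11, 3, 16, 16])])
  (.leaf [(4, [11, 11, 3, 16]), (4, [18, 11, 11, 3, 16])]))
  (.node [16, 7, 14] (.leaf [(4, [11, 14, 11, 16, 16]), (4, [18, 11, 14, 11, 16, 16])])
  (.leaf [(4, [11, 3, 16]), (4, [18, 11, 3, 16])]))))))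
  (.node [11, 13] (.node [11, 14, 15] (.node [14, 3, 11] (.node [16, 7] (.leaf [(3, [14, 3, 16, 16]), (3, [18, 14, 3, 16, 16])])
  (.leaf [(3, [14, 3, 16]), (3, [18, 14, 3, 16])]))
  (.node [14, 18, 14] (.leaf [(4, [14, 3]), (4, [18, 14, 3])])
  (.node [15, 18, 15] (.leaf [(4, [11, 11]), (4, [18, 11, 11])])
  (.leaf [(4, [11, 11, 16]), (4, [14, 3, 16, 16]), (4, [18, 11, 11, 16]), (4, [18, 14, 3, 16, 16])]))))
  (.node [7] (.node [14] (.leaf [(3, [11, 11, 3]), (3, [18, 11, 11, 3])])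
  (.leaf [(3, [14, 11, 3]), (3, [18, 14, 11, 3])]))
  (.node [14, 18, 14] (.node [16, 7, 14] (.leaf [(4, [11, 11, 3, 16, 16]), (4, [18, 11, 11, 3, 16, 16])])
  (.leaf [(4, [14, 7, 11, 3, 16]), (4, [18, 14, 7, 11, 3, 16])]))
  (.node [7, 16, 14] (.leaf [(4, [3, 14, 3, 16]), (4, [18, 3, 14, 3, 16])])
  (.leaf [(4, [14, 11, 3, 16]), (4, [18, 14, 11, 3, 16])])))))
  (.node [14, 3, 15] (.node [3, 11, 14] (.node [16, 7] (.leaf [(3, [11, 16, 16]), (3, [18, 11, 16, 16])])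
  (.leaf [(3, [11, 16]), (3, [18, 11, 16])]))
  (.node [14, 18, 14] (.leaf [(4, [11]), (4, [18, 11])])
  (.node [15, 18, 15] (.leaf [(4, [15, 3]), (4, [18, 15, 3])])
  (.leaf [(4, [11, 16]), (4, [7, 11, 16]), (4, [18, 11, 16]), (4, [18, 7, 11, 16])]))))
  (.node [7] (.node [14] (.leaf [(3, [11, 3, 3]), (3, [18, 11, 3, 3])])
  (.leaf [(3, [11, 3]), (3, [18, 11, 3])]))
  (.node [14, 18, 14] (.node [7, 16, 14] (.leaf [(4, [11, 14, 11, 16]), (4, [18, 11, 14, 11, 16])])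
  (.leaf [(4, [15, 11, 3, 16]), (4, [18, 15, 11, 3, 16])]))
  (.node [16, 7, 14] (.leaf [(4, [11, 3, 3, 16, 16]), (4, [18, 11, 3, 3, 16, 16])])
  (.leaf [(4, [11, 3, 16, 16]), (4, [18, 11, 3, 16, 16])]))))))))

/-- a formula -/
def x0_Q_f : Fm := .all 2 40 [] (.imp (.one (.mul (.l 40) (.l 40))) (.or (.one (.l 40)) (dtF [(.l 5, .l 40), (.mul (.mul (.mul (.l 18) (.l 7)) (.l 18)) (.inv (.l 7)), .l 40), (.mul (.mul (.mul (.l 18) (.l 14)) (.l 18)) (.inv (.l 14)), .l 40), (.mul (.mul (.mul (.mul (.mul (.mul (.mul (.mul (.l 5) (.l 7)) (.l 18)) (.l 14)) (.l 18)) (.l 7)) (.l 18)) (.l 14)) (.l 18), .l 40), (.mul (.mul (.mul (.mul (.mul (.mul (.mul (.mul (.mul (.mul (.mul (.l 16) (.l 18)) (.l 16)) (.l 14)) (.l 18)) (.l 7)) (.l 18)) (.l 16)) (.l 14)) (.l 18)) (.l 16)) (.l 7), .l 40)] (.l 40) x0_Q_T)))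

theorem x0_Q_ev : x0.eval x0_Q_f = true := by decide +kernel

theorem x0_Q {G : Type*} [Group G] {γ : ℕ → G} {k : ℕ} {N : List W} (g : Gf x0 γ k N)
    (e : tyB x0 k N x0_Q_f = true := by decide +kernel) :
    ∀ h ∈ genW γ (x0.ws 2), h * h = 1 → h = 1 ∨ MJ (genW γ (x0.ws 0)) (γ 5) (h) ∨ MJ (genW γ (x0.ws 0)) (γ 18 * γ 7 * γ 18 * (γ 7)⁻¹) (h) ∨ MJ (genW γ (x0.ws 0)) (γ 18 * γ 14 * γ 18 * (γ 14)⁻¹) (h) ∨ MJ (genW γ (x0.ws 0)) (γ 5 * γ 7 * γ 18 * γ 14 * γ 18 * γ 7 * γ 18 * γ 14 * γ 18) (h) ∨ MJ (genW γ (x0.ws 0)) (γ 16 * γ 18 * γ 16 * γ 14 * γ 18 * γ 7 * γ 18 * γ 16 * γ 14 * γ 18 * γ 16 * γ 7) (h) :=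
  fun y a b => (g.transfer e x0_Q_ev y a b).imp_right fun h => by
  obtain ⟨q, m, h⟩ := dt_mj h g.zero (x0.ws 0)
  simp only [List.mem_cons, List.not_mem_nil, or_false] at m
  rcases m with rfl | rfl | rfl | rfl | rfl
  exacts [.inl h, .inr (.inl h), .inr (.inr (.inl h)), .inr (.inr (.inr (.inl h))), .inr (.inr (.inr (.inr (h))))]

/-- a decision tree -/
def x0_T_T : DT := .node [13] (.node [14, 15] (.node [7] (.node [3] (.node [18] (.leaf [(0, []), (0, [14, 18, 14])])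
  (.leaf [(1, []), (1, [14, 18, 14]), (1, [14, 3, 18, 7, 18, 14, 11]), (1, [14, 16, 18, 7, 18, 14, 16])]))
  (.node [11] (.node [14, 18, 14] (.leaf [(0, [14]), (0, [18, 14])])
  (.leaf [(1, [14]), (1, [18, 14]), (1, [3, 18, 7, 18, 14, 11]), (1, [16, 18, 7, 18, 14, 16])]))
  (.node [18] (.leaf [(2, []), (2, [14, 18, 14]), (2, [16, 18, 16, 16]), (2, [3, 18, 15, 18, 14, 3])])
  (.node [3, 18, 3] (.leaf [(1, [18]), (1, [18, 14, 18, 14]), (1, [18, 14, 16, 18, 7, 18, 14, 16]), (1, [18, 14, 3, 18, 7, 18, 14, 11])])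
  (.node [14, 18, 14] (.leaf [(2, [14]), (2, [18, 14]), (2, [11, 14, 18, 3]), (2, [18, 11, 14, 18, 3])])
  (.leaf [(1, [14, 18]), (1, [18, 14, 18]), (1, [16, 18, 7, 18, 14, 16, 18]), (1, [3, 18, 7, 18, 14, 18, 11])]))))))
  (.node [16, 7] (.node [3] (.leaf [(0, [14, 3, 18, 14, 11])])
  (.node [11] (.leaf [(0, [3, 18, 14, 11])])
  (.leaf [(2, [16, 16]), (2, [18, 16, 16]), (2, [14, 16, 16]), (2, [14, 18, 16, 16]), (2, [16, 16, 18, 14]), (2, [14, 16, 16, 18, 14]), (2, [18, 14, 16, 16, 18, 14]), (2, [18, 16, 18, 14, 18, 16])])))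
  (.node [7, 16] (.node [3] (.leaf [(0, [14, 16, 18, 14])])
  (.node [11] (.leaf [(0, [16, 18, 14])])
  (.leaf [(2, [16]), (2, [18, 16]), (2, [14, 16]), (2, [14, 18, 16]), (2, [16, 18, 14]), (2, [14, 16, 18, 14]), (2, [18, 14, 16, 18, 14]), (2, [16, 18, 11, 14, 18, 3])])))
  (.node [18] (.leaf [(2, [11, 14, 18, 15, 11]), (2, [14, 3, 18, 14, 11]), (2, [16, 18, 14, 16, 18, 14, 16]), (2, [16, 18, 14, 18, 14, 16, 16])])
  (.node [7, 18] (.leaf [(2, [3, 18, 14, 11]), (2, [16, 18, 14, 16, 16]), (2, [16, 16, 18, 14, 18, 16]), (2, [16, 18, 14, 18, 16, 16])])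
  (.leaf [(2, [18, 14, 16]), (2, [14, 18, 14, 16]), (2, [18, 14, 18, 16]), (2, [18, 14, 16, 16]), (2, [18, 16, 18, 14]), (2, [16, 18, 14, 16]), (2, [18, 14, 18, 14, 16]), (2, [14, 18, 14, 16, 16]), (2, [18, 14, 18, 16, 16]), (2, [16, 18, 14, 18, 16]), (2, [14, 18, 16, 18, 14]), (2, [14, 16, 18, 14, 16]), (2, [18, 14, 18, 14, 16, 16]), (2, [18, 14, 18, 16, 18, 14]), (2, [18, 14, 16, 18, 14, 16]), (2, [3, 18, 14, 18, 11, 16])]))))))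
  (.node [3, 14, 15] (.node [7] (.node [3, 18] (.leaf [(1, [3, 3, 18]), (1, [15, 18, 14, 3, 18]), (1, [16, 18, 14, 18, 7, 18, 14, 16]), (1, [15, 18, 16, 18, 7, 18, 14, 18, 16])])
  (.leaf [(2, [3, 3]), (2, [18, 3, 3]), (2, [15, 18, 14, 3]), (2, [18, 15, 18, 14, 3])]))
  (.node [18] (.node [16, 7] (.leaf [(2, [3, 3, 16, 16]), (2, [3, 18, 3, 16, 16]), (2, [15, 16, 16, 18, 14, 3]), (2, [16, 18, 15, 16, 18, 14, 3])])
  (.leaf [(2, [15, 18, 14, 3, 16, 16]), (2, [15, 16, 18, 14, 3, 16]), (2, [15, 18, 14, 18, 3, 16, 16]), (2, [16, 18, 15, 18, 14, 3, 16])]))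
  (.node [7, 16] (.leaf [(2, [3, 3, 16]), (2, [18, 3, 3, 16]), (2, [15, 16, 18, 14, 3]), (2, [18, 15, 16, 18, 14, 3])])
  (.node [7, 18, 7] (.leaf [(2, [15, 18, 14, 3, 16]), (2, [18, 15, 18, 14, 3, 16]), (2, [15, 18, 16, 18, 14, 3]), (2, [18, 15, 18, 16, 18, 14, 3])])
  (.leaf [(2, [11, 14, 18, 15, 11, 3]), (2, [15, 3, 18, 14, 11, 3]), (2, [18, 15, 3, 18, 14, 11, 3]), (2, [18, 11, 14, 18, 15, 11, 3])])))))
  (.node [7] (.node [18, 3] (.leaf [(1, [3, 18]), (1, [3, 18, 14, 18, 14]), (1, [14, 16, 18, 7, 18, 14, 18, 16]), (1, [14, 18, 16, 18, 7, 18, 14, 18, 16])])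
  (.leaf [(2, [3]), (2, [18, 3]), (2, [14, 18, 14, 3]), (2, [18, 14, 18, 14, 3])]))
  (.node [18] (.node [7, 16] (.leaf [(2, [3, 16]), (2, [3, 18, 16]), (2, [14, 16, 18, 14, 3]), (2, [16, 18, 14, 18, 14, 3])])
  (.leaf [(2, [14, 18, 14, 3, 16]), (2, [3, 18, 14, 18, 14, 16]), (2, [14, 18, 16, 18, 14, 3]), (2, [14, 18, 16, 18, 14, 18, 3])]))
  (.node [7, 18, 7] (.node [16, 7] (.leaf [(2, [3, 16, 16]), (2, [18, 3, 16, 16]), (2, [14, 16, 16, 18, 14, 3]), (2, [18, 14, 16, 16, 18, 14, 3])])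
  (.leaf [(2, [14, 18, 14, 3, 16, 16]), (2, [14, 16, 18, 14, 3, 16]), (2, [18, 14, 18, 14, 3, 16, 16]), (2, [18, 14, 16, 18, 14, 3, 16])]))
  (.node [11] (.leaf [(1, [3, 18, 14, 11]), (1, [16, 7, 18, 14, 16]), (1, [16, 18, 14, 16, 16]), (1, [7, 16, 18, 14, 16, 16])])
  (.node [14, 11, 15] (.leaf [(2, [11, 14, 18, 3, 14, 3]), (2, [14, 3, 18, 14, 11, 3]), (2, [18, 14, 3, 18, 14, 11, 3]), (2, [18, 11, 14, 18, 3, 14, 3])])
  (.leaf [(1, [3, 18, 14, 18, 11]), (1, [18, 3, 18, 14, 18, 11]), (1, [7, 3, 18, 14, 18, 11]), (1, [15, 18, 14, 3, 18, 14, 11])]))))))))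
  (.node [11, 13] (.node [7] (.node [14, 18, 15] (.leaf [(1, [14, 3, 18]), (1, [18, 14, 3, 18]), (1, [16, 18, 7, 18, 14, 18, 16]), (1, [18, 16, 18, 7, 18, 14, 18, 16])])
  (.leaf [(2, [14, 3]), (2, [18, 14, 3]), (2, [14, 18, 3]), (2, [18, 14, 18, 3])]))
  (.node [14, 18, 14] (.node [7, 16] (.leaf [(2, [14, 3, 16]), (2, [14, 3, 18, 16]), (2, [16, 18, 14, 3]), (2, [16, 18, 14, 18, 3])])
  (.leaf [(2, [18, 14, 3, 16]), (2, [18, 14, 3, 18, 16]), (2, [18, 16, 18, 14, 3]), (2, [18, 16, 18, 14, 18, 3])]))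
  (.node [15, 18, 15] (.node [16, 7] (.leaf [(2, [14, 3, 16, 16]), (2, [14, 18, 3, 16, 16]), (2, [16, 16, 18, 14, 3]), (2, [16, 16, 18, 14, 18, 3])])
  (.leaf [(2, [18, 14, 3, 16, 16]), (2, [16, 18, 14, 3, 16]), (2, [18, 14, 18, 3, 16, 16]), (2, [16, 18, 14, 3, 18, 16])]))
  (.node [7, 18] (.leaf [(2, [3, 18, 14, 11, 3]), (2, [3, 18, 14, 18, 11, 3]), (2, [16, 18, 14, 3, 16, 16]), (2, [16, 18, 14, 18, 3, 16, 16])])
  (.leaf [(1, [16, 7, 18, 14, 18, 16]), (1, [16, 18, 15, 18, 16, 16]), (1, [16, 16, 18, 14, 18, 16]), (1, [7, 16, 18, 15, 18, 16, 16])])))))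
  (.node [13, 11] (.node [7] (.node [14, 18, 15] (.leaf [(1, [15, 3, 18]), (1, [18, 15, 3, 18]), (1, [16, 18, 7, 18, 15, 18, 16]), (1, [18, 16, 18, 7, 18, 15, 18, 16])])
  (.leaf [(2, [15, 3]), (2, [18, 15, 3]), (2, [15, 18, 3]), (2, [18, 15, 18, 3])]))
  (.node [14, 18, 14] (.node [16, 7] (.leaf [(2, [15, 3, 16, 16]), (2, [15, 18, 3, 16, 16]), (2, [16, 16, 18, 15, 3]), (2, [16, 16, 18, 15, 18, 3])])
  (.leaf [(2, [18, 15, 3, 16, 16]), (2, [16, 18, 15, 3, 16]), (2, [18, 15, 18, 3, 16, 16]), (2, [16, 18, 15, 3, 18, 16])]))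
  (.node [15, 18, 15] (.node [7, 16] (.leaf [(2, [15, 3, 16]), (2, [15, 3, 18, 16]), (2, [16, 18, 15, 3]), (2, [16, 18, 15, 18, 3])])
  (.leaf [(2, [18, 15, 3, 16]), (2, [18, 15, 3, 18, 16]), (2, [18, 16, 18, 15, 3]), (2, [18, 16, 18, 15, 18, 3])]))
  (.node [7, 18] (.leaf [(2, [3, 18, 11, 14, 11]), (2, [16, 18, 15, 3, 16, 16]), (2, [16, 16, 18, 15, 3, 18, 16]), (2, [16, 18, 15, 18, 3, 16, 16])])
  (.leaf [(1, [16, 7, 18, 15, 18, 16]), (1, [16, 18, 14, 18, 16, 16]), (1, [16, 16, 18, 15, 18, 16]), (1, [7, 16, 18, 14, 18, 16, 16])])))))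
  (.node [14, 15, 13] (.node [3] (.leaf [(1, [14, 3, 18, 14, 11]), (1, [15, 3, 18, 14, 11]), (1, [11, 14, 18, 15, 11]), (1, [15, 16, 18, 14, 16, 16])])
  (.leaf [(1, [18, 11, 14, 18, 15, 11]), (1, [18, 15, 3, 18, 14, 11]), (1, [18, 14, 3, 18, 14, 11]), (1, [18, 15, 16, 18, 14, 16, 16])]))
  (.node [3, 18] (.leaf [(1, [16, 18, 15, 18, 14, 16, 16]), (1, [16, 18, 14, 18, 14, 16, 16]), (1, [16, 18, 15, 16, 18, 14, 16]), (1, [16, 18, 14, 16, 18, 14, 16])])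
  (.leaf [(1, [14, 16, 18, 15, 18, 16, 16]), (1, [15, 16, 18, 14, 18, 16, 16]), (1, [16, 16, 18, 14, 18, 14, 16]), (1, [16, 16, 18, 15, 18, 14, 16])])))))

/-- a formula -/
def x0_T_f : Fm := .all 5 40 [] (.imp (.one (.mul (.mul (.l 40) (.l 13)) (.mul (.l 40) (.l 13)))) (.or (dtF [(.mul (.l 5) (.l 13), .mul (.l 40) (.l 13)), (.mul (.l 13) (.l 7), .mul (.l 40) (.l 13)), (.mul (.mul (.mul (.mul (.l 18) (.l 7)) (.l 18)) (.inv (.l 7))) (.l 13), .mul (.l 40) (.l 13))] (.mul (.l 40) (.l 13)) x0_T_T) (.ex 6 41 [(.l 13, .mul (.l 40) (.l 13))] (.tt))))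

theorem x0_T_ev : x0.eval x0_T_f = true := by decide +kernel

theorem x0_T {G : Type*} [Group G] {γ : ℕ → G} {k : ℕ} {N : List W} (g : Gf x0 γ k N)
    (e : tyB x0 k N x0_T_f = true := by decide +kernel) :
    ∀ h ∈ genW γ (x0.ws 5), h * γ 13 * (h * γ 13) = 1 → (MJ (genW γ (x0.ws 0)) (γ 5 * γ 13) (h * γ 13) ∨ MJ (genW γ (x0.ws 0)) (γ 13 * γ 7) (h * γ 13) ∨ MJ (genW γ (x0.ws 0)) (γ 18 * γ 7 * γ 18 * (γ 7)⁻¹ * γ 13) (h * γ 13)) ∨ (∃ k ∈ genW γ (x0.ws 6), k * γ 13 = h * γ 13 * k ∧ True) :=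
  fun y a b => (g.transfer e x0_T_ev y a b).imp_left fun h => by
  obtain ⟨q, m, h⟩ := dt_mj h g.zero (x0.ws 0)
  simp only [List.mem_cons, List.not_mem_nil, or_false] at m
  rcases m with rfl | rfl | rfl
  exacts [.inl h, .inr (.inl h), .inr (.inr (h))]

end Cfsg.Lib.As8
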