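import Cfsg.Agent.Lib.As8.MZ
import Cfsg.Agent.Lib.Loc3.Gen6

/-! More facts about `3¹⁺⁴ : (GL₂(3) × 2)` (helper7). -/

set_option autoImplicit false
set_option maxRecDepth 1000000
set_option maxHeartbeats 0

namespace Cfsg.Lib.As8

open Cfsg.Lib.Calc Cfsg.Lib.Grp Cfsg.Lib.T2 Cfsg.Lib.T3 Cfsg.Lib.Loc3
open Cfsg.Lib.T2.L (MJ)

/-- a formula -/
def nz_cm10_f : Fm := .all 10 40 [(.l 12, .l 12)] (.mem 12 (.pow (.l 40) 8))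

theorem nz_cm10_ev : nz.eval nz_cm10_f = true := by decide +kernel

theorem nz_cm10 {G : Type*} [Group G] {γ : ℕ → G} {k : ℕ} {N : List W} (g : Gf nz γ k N)
    (e : tyB nz k N nz_cm10_f = true := by decide +kernel) :
    ∀ g ∈ genW γ (nz.ws 10), g * γ 12 = γ 12 * g → g ^ 8 ∈ genW γ (nz.ws 12) :=
  g.transfer e nz_cm10_ev

/-- a formula -/
def nz_cm11_f : Fm := .all 11 40 [(.l 12, .l 12)] (.mem 12 (.pow (.l 40) 8))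

theorem nz_cm11_ev : nz.eval nz_cm11_f = true := by decide +kernel

theorem nz_cm11 {G : Type*} [Group G] {γ : ℕ → G} {k : ℕ} {N : List W} (g : Gf nz γ k N)
    (e : tyB nz k N nz_cm11_f = true := by decide +kernel) :
    ∀ g ∈ genW γ (nz.ws 11), g * γ 12 = γ 12 * g → g ^ 8 ∈ genW γ (nz.ws 12) :=
  g.transfer e nz_cm11_ev

theorem nz_cm {G : Type*} [Group G] {γ : ℕ → G} {k : ℕ} (hk : k = 10 ∨ k = 11) (g : Gf nz γ k []) :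
    ∀ g ∈ genW γ (nz.ws k), g * γ 12 = γ 12 * g → g ^ 8 ∈ genW γ (nz.ws 12) := by
  rcases hk with rfl | rfl
  exacts [nz_cm10 g, nz_cm11 g]

/-- a formula -/
def nz_cx10_f : Fm := .all 10 40 [(.mul (.l 4) (.l 12), .mul (.l 4) (.l 12))] (.mem 13 (.pow (.l 40) 8))

theorem nz_cx10_ev : nz.eval nz_cx10_f = true := by decide +kernel

theorem nz_cx10 {G : Type*} [Group G] {γ : ℕ → G} {k : ℕ} {N : List W} (g : Gf nz γ k N)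
    (e : tyB nz k N nz_cx10_f = true := by decide +kernel) :
    ∀ g ∈ genW γ (nz.ws 10), g * (γ 4 * γ 12) = γ 4 * γ 12 * g → g ^ 8 ∈ genW γ (nz.ws 13) :=
  g.transfer e nz_cx10_ev

/-- a formula -/
def nz_cx11_f : Fm := .all 11 40 [(.mul (.l 4) (.l 12), .mul (.l 4) (.l 12))] (.mem 13 (.pow (.l 40) 8))

theorem nz_cx11_ev : nz.eval nz_cx11_f = true := by decide +kernel

theorem nz_cx11 {G : Type*} [Group G] {γ : ℕ → G} {k : ℕ} {N : List W} (g : Gf nz γ k N)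
    (e : tyB nz k N nz_cx11_f = true := by decide +kernel) :
    ∀ g ∈ genW γ (nz.ws 11), g * (γ 4 * γ 12) = γ 4 * γ 12 * g → g ^ 8 ∈ genW γ (nz.ws 13) :=
  g.transfer e nz_cx11_ev

theorem nz_cx {G : Type*} [Group G] {γ : ℕ → G} {k : ℕ} (hk : k = 10 ∨ k = 11) (g : Gf nz γ k []) :
    ∀ g ∈ genW γ (nz.ws k), g * (γ 4 * γ 12) = γ 4 * γ 12 * g → g ^ 8 ∈ genW γ (nz.ws 13) := by
  rcases hk with rfl | rfl
  exacts [nz_cx10 g, nz_cx11 g]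

/-- a formula -/
def nz_zn10_f : Fm := .all 10 40 [(.mul (.mul (.l 1) (.l 2)) (.l 3), .mul (.mul (.l 1) (.l 2)) (.l 3)), (.l 11, .l 11)] (.or (.mem 15 (.l 40)) (.or (.mem 15 (.mul (.l 40) (.l 11))) (.mem 15 (.mul (.l 40) (.inv (.l 11))))))

theorem nz_zn10_ev : nz.eval nz_zn10_f = true := by decide +kernel

theorem nz_zn10 {G : Type*} [Group G] {γ : ℕ → G} {k : ℕ} {N : List W} (g : Gf nz γ k N)
    (e : tyB nz k N nz_zn10_f = true := by decide +kernel) :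
    ∀ g ∈ genW γ (nz.ws 10), g * (γ 1 * γ 2 * γ 3) = γ 1 * γ 2 * γ 3 * g → g * γ 11 = γ 11 * g → g ∈ genW γ (nz.ws 15) ∨ g * γ 11 ∈ genW γ (nz.ws 15) ∨ g * (γ 11)⁻¹ ∈ genW γ (nz.ws 15) :=
  g.transfer e nz_zn10_ev

/-- a formula -/
def nz_zn11_f : Fm := .all 11 40 [(.mul (.mul (.l 1) (.l 2)) (.l 3), .mul (.mul (.l 1) (.l 2)) (.l 3)), (.l 11, .l 11)] (.or (.mem 15 (.l 40)) (.or (.mem 15 (.mul (.l 40) (.l 11))) (.mem 15 (.mul (.l 40) (.inv (.l 11))))))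

theorem nz_zn11_ev : nz.eval nz_zn11_f = true := by decide +kernel

theorem nz_zn11 {G : Type*} [Group G] {γ : ℕ → G} {k : ℕ} {N : List W} (g : Gf nz γ k N)
    (e : tyB nz k N nz_zn11_f = true := by decide +kernel) :
    ∀ g ∈ genW γ (nz.ws 11), g * (γ 1 * γ 2 * γ 3) = γ 1 * γ 2 * γ 3 * g → g * γ 11 = γ 11 * g → g ∈ genW γ (nz.ws 15) ∨ g * γ 11 ∈ genW γ (nz.ws 15) ∨ g * (γ 11)⁻¹ ∈ genW γ (nz.ws 15) :=
  g.transfer e nz_zn11_ev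

theorem nz_zn {G : Type*} [Group G] {γ : ℕ → G} {k : ℕ} (hk : k = 10 ∨ k = 11) (g : Gf nz γ k []) :
    ∀ g ∈ genW γ (nz.ws k), g * (γ 1 * γ 2 * γ 3) = γ 1 * γ 2 * γ 3 * g → g * γ 11 = γ 11 * g → g ∈ genW γ (nz.ws 15) ∨ g * γ 11 ∈ genW γ (nz.ws 15) ∨ g * (γ 11)⁻¹ ∈ genW γ (nz.ws 15) := by
  rcases hk with rfl | rfl
  exacts [nz_zn10 g, nz_zn11 g]

/-- a formula -/
def nz_zt_f : Fm := .all 10 40 [(.mul (.mul (.l 1) (.l 2)) (.l 3), .mul (.mul (.l 1) (.l 2)) (.l 3)), (.l 5, .l 5)] (.or (.mem 14 (.l 40)) (.or (.mem 14 (.mul (.l 40) (.l 12))) (.mem 14 (.mul (.l 40) (.inv (.l 12))))))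

theorem nz_zt_ev : nz.eval nz_zt_f = true := by decide +kernel

theorem nz_zt {G : Type*} [Group G] {γ : ℕ → G} {k : ℕ} {N : List W} (g : Gf nz γ k N)
    (e : tyB nz k N nz_zt_f = true := by decide +kernel) :
    ∀ g ∈ genW γ (nz.ws 10), g * (γ 1 * γ 2 * γ 3) = γ 1 * γ 2 * γ 3 * g → g * γ 5 = γ 5 * g → g ∈ genW γ (nz.ws 14) ∨ g * γ 12 ∈ genW γ (nz.ws 14) ∨ g * (γ 12)⁻¹ ∈ genW γ (nz.ws 14) :=
  g.transfer e nz_zt_ev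

/-- a formula -/
def nz_ztn_f : Fm := .all 10 40 [(.mul (.mul (.l 1) (.l 2)) (.l 3), .mul (.mul (.l 1) (.l 2)) (.l 3)), (.l 5, .l 5), (.l 11, .l 11)] (.mem 14 (.l 40))

theorem nz_ztn_ev : nz.eval nz_ztn_f = true := by decide +kernel

theorem nz_ztn {G : Type*} [Group G] {γ : ℕ → G} {k : ℕ} {N : List W} (g : Gf nz γ k N)
    (e : tyB nz k N nz_ztn_f = true := by decide +kernel) :
    ∀ g ∈ genW γ (nz.ws 10), g * (γ 1 * γ 2 * γ 3) = γ 1 * γ 2 * γ 3 * g → g * γ 5 = γ 5 * g → g * γ 11 = γ 11 * g → g ∈ genW γ (nz.ws 14) :=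
  g.transfer e nz_ztn_ev

/-- a formula -/
def nz_zte_f : Fm := .all 10 40 [(.mul (.mul (.l 1) (.l 2)) (.l 3), .mul (.mul (.l 1) (.l 2)) (.l 3)), (.l 5, .l 5), (.mul (.l 11) (.l 3), .mul (.l 11) (.l 3))] (.mem 19 (.l 40))

theorem nz_zte_ev : nz.eval nz_zte_f = true := by decide +kernel

theorem nz_zte {G : Type*} [Group G] {γ : ℕ → G} {k : ℕ} {N : List W} (g : Gf nz γ k N)
    (e : tyB nz k N nz_zte_f = true := by decide +kernel) :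
    ∀ g ∈ genW γ (nz.ws 10), g * (γ 1 * γ 2 * γ 3) = γ 1 * γ 2 * γ 3 * g → g * γ 5 = γ 5 * g → g * (γ 11 * γ 3) = γ 11 * γ 3 * g → g ∈ genW γ (nz.ws 19) :=
  g.transfer e nz_zte_ev

/-- a formula -/
def nz_zp_f : Fm := .all 11 40 [(.mul (.mul (.l 1) (.l 2)) (.l 3), .mul (.mul (.l 1) (.l 2)) (.l 3)), (.mul (.l 1) (.inv (.l 3)), .mul (.l 1) (.inv (.l 3)))] (.and (.mem 17 (.l 40)) (.or (.mem 18 (.l 40)) (.or (.mem 18 (.mul (.l 40) (.mul (.l 1) (.inv (.l 3))))) (.mem 18 (.mul (.l 40) (.inv (.mul (.l 1) (.inv (.l 3)))))))))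

theorem nz_zp_ev : nz.eval nz_zp_f = true := by decide +kernel

theorem nz_zp {G : Type*} [Group G] {γ : ℕ → G} {k : ℕ} {N : List W} (g : Gf nz γ k N)
    (e : tyB nz k N nz_zp_f = true := by decide +kernel) :
    ∀ g ∈ genW γ (nz.ws 11), g * (γ 1 * γ 2 * γ 3) = γ 1 * γ 2 * γ 3 * g → g * (γ 1 * (γ 3)⁻¹) = γ 1 * (γ 3)⁻¹ * g → g ∈ genW γ (nz.ws 17) ∧ (g ∈ genW γ (nz.ws 18) ∨ g * (γ 1 * (γ 3)⁻¹) ∈ genW γ (nz.ws 18) ∨ g * (γ 1 * (γ 3)⁻¹)⁻¹ ∈ genW γ (nz.ws 18)) :=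
  g.transfer e nz_zp_ev

/-- a formula -/
def nz_zr_f : Fm := .all 11 40 [(.mul (.mul (.l 1) (.l 2)) (.l 3), .mul (.mul (.l 1) (.l 2)) (.l 3)), (.l 13, .l 13)] (.or (.mem 15 (.l 40)) (.mem 15 (.mul (.l 40) (.l 13))))

theorem nz_zr_ev : nz.eval nz_zr_f = true := by decide +kernel

theorem nz_zr {G : Type*} [Group G] {γ : ℕ → G} {k : ℕ} {N : List W} (g : Gf nz γ k N)
    (e : tyB nz k N nz_zr_f = true := by decide +kernel) :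
    ∀ g ∈ genW γ (nz.ws 11), g * (γ 1 * γ 2 * γ 3) = γ 1 * γ 2 * γ 3 * g → g * γ 13 = γ 13 * g → g ∈ genW γ (nz.ws 15) ∨ g * γ 13 ∈ genW γ (nz.ws 15) :=
  g.transfer e nz_zr_ev

/-- a decision tree -/
def nz_U_T : DT := .node [4] (.node [5] (.leaf [(1, []), (2, []), (1, [11]), (2, [11]), (1, [11, 11]), (2, [11, 11])])
  (.node [11] (.leaf [(0, [6]), (0, [6, 5]), (0, [6, 4]), (0, [6, 4, 5]), (0, [6, 5, 4]), (0, [6, 4, 4])])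
  (.leaf [(3, []), (4, []), (3, [11]), (3, [5]), (4, [5]), (4, [11]), (3, [11, 11]), (3, [11, 5]), (4, [11, 5]), (4, [11, 11]), (3, [11, 11, 5]), (4, [11, 11, 5])])))
  (.node [11] (.node [1] (.leaf [(0, []), (0, [4]), (0, [5]), (0, [4, 4]), (0, [4, 5]), (0, [5, 4])])
  (.node [6] (.leaf [(0, [1, 6]), (0, [2, 6]), (0, [3, 6]), (0, [2, 6, 5]), (0, [1, 6, 5]), (0, [3, 6, 5])])
  (.leaf [(0, [6, 6]), (0, [1, 1, 6]), (0, [6, 6, 5]), (0, [3, 1, 6]), (0, [4, 6, 6]), (0, [6, 6, 4])])))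
  (.node [4, 11] (.node [1, 1, 2] (.leaf [(3, [6, 2, 1]), (3, [6, 1, 1]), (3, [6, 3, 1]), (4, [6, 2, 1]), (4, [6, 3, 1]), (4, [6, 1, 1])])
  (.leaf [(3, [6, 6, 2]), (3, [6, 6, 1]), (3, [6, 6, 3]), (4, [6, 6, 1]), (4, [6, 6, 2]), (4, [6, 6, 3]), (3, [3, 6, 5, 1]), (3, [1, 6, 5, 1]), (3, [2, 6, 5, 1]), (4, [3, 6, 5, 1]), (4, [2, 6, 5, 1]), (4, [1, 6, 5, 1])]))
  (.node [1, 1, 2] (.leaf [(3, [1, 6, 6]), (4, [1, 6, 6]), (3, [6, 5, 1, 1]), (3, [6, 5, 3, 1]), (4, [6, 5, 3, 1]), (4, [6, 5, 1, 1])])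
  (.leaf [(3, [1, 6, 1]), (3, [3, 6, 1]), (3, [2, 6, 1]), (3, [3, 1, 6]), (3, [1, 1, 6]), (3, [2, 1, 6]), (4, [1, 1, 6]), (4, [3, 1, 6]), (4, [2, 1, 6]), (4, [1, 6, 1]), (4, [2, 6, 1]), (4, [3, 6, 1])]))))

/-- a formula -/
def nz_U_f : Fm := .all 12 40 [] (.imp (.one (.pow (.l 40) 3)) (.or (.mem 5 (.l 40)) (dtF [(.mul (.l 1) (.inv (.l 2)), .l 40), (.l 12, .l 40), (.inv (.l 12), .l 40), (.mul (.l 4) (.l 12), .l 40), (.inv (.mul (.l 4) (.l 12)), .l 40)] (.l 40) nz_U_T)))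

theorem nz_U_ev : nz.eval nz_U_f = true := by decide +kernel

theorem nz_U {G : Type*} [Group G] {γ : ℕ → G} {k : ℕ} {N : List W} (g : Gf nz γ k N)
    (e : tyB nz k N nz_U_f = true := by decide +kernel) :
    ∀ h ∈ genW γ (nz.ws 12), h ^ 3 = 1 → h ∈ genW γ (nz.ws 5) ∨ MJ (genW γ (nz.ws 3)) (γ 1 * (γ 2)⁻¹) (h) ∨ MJ (genW γ (nz.ws 3)) (γ 12) (h) ∨ MJ (genW γ (nz.ws 3)) ((γ 12)⁻¹) (h) ∨ MJ (genW γ (nz.ws 3)) (γ 4 * γ 12) (h) ∨ MJ (genW γ (nz.ws 3)) ((γ 4 * γ 12)⁻¹) (h) :=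
  fun y a b => (g.transfer e nz_U_ev y a b).imp_right fun h => by
  obtain ⟨q, m, h⟩ := dt_mj h g.zero (nz.ws 3)
  simp only [List.mem_cons, List.not_mem_nil, or_false] at m
  rcases m with rfl | rfl | rfl | rfl | rfl
  exacts [.inl h, .inr (.inl h), .inr (.inr (.inl h)), .inr (.inr (.inr (.inl h))), .inr (.inr (.inr (.inr (h))))]

/-- a decision tree -/
def nz_P_T : DT := .node [4] (.node [12] (.leaf [(0, []), (1, []), (0, [11]), (1, [11]), (0, [11, 11]), (1, [11, 11])])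
  (.node [11, 12] (.leaf [(0, [1, 1]), (1, [1, 1]), (0, [11, 1, 1]), (0, [12, 1, 1]), (1, [12, 1, 1]), (1, [11, 1, 1])])
  (.leaf [(0, [1]), (1, [1]), (0, [11, 1]), (1, [11, 1]), (0, [11, 11, 1]), (1, [11, 11, 1])])))
  (.node [4, 11] (.node [12] (.leaf [(2, [6, 3, 1]), (2, [6, 2, 1]), (2, [6, 1, 1]), (3, [6, 1, 1]), (3, [6, 2, 1]), (3, [6, 3, 1])])
  (.node [4, 12] (.leaf [(2, [1, 6, 1, 1]), (2, [1, 6, 3, 1]), (2, [1, 6, 2, 1]), (3, [1, 6, 3, 1]), (3, [1, 6, 1, 1]), (3, [1, 6, 2, 1])])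
  (.leaf [(2, [6, 6, 5]), (3, [6, 6, 5]), (2, [6, 4, 6, 5]), (2, [4, 6, 6, 5]), (3, [4, 6, 6, 5]), (3, [6, 4, 6, 5])])))
  (.node [12] (.leaf [(2, [1, 6, 6]), (3, [1, 6, 6]), (2, [6, 5, 3, 1]), (2, [6, 5, 1, 1]), (3, [6, 5, 1, 1]), (3, [6, 5, 3, 1])])
  (.node [4, 12] (.leaf [(2, [6, 6]), (3, [6, 6]), (2, [4, 6, 6]), (2, [6, 4, 6]), (3, [6, 4, 6]), (3, [4, 6, 6])])
  (.leaf [(2, [1, 1, 6, 6]), (3, [1, 1, 6, 6]), (2, [1, 6, 5, 1, 1]), (2, [1, 6, 5, 3, 1]), (3, [1, 6, 5, 3, 1]), (3, [1, 6, 5, 1, 1])]))))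

/-- a formula -/
def nz_P_f : Fm := .all 17 40 [] (.imp (.one (.pow (.l 40) 3)) (.or (.mem 6 (.l 40)) (dtF [(.l 12, .l 40), (.inv (.l 12), .l 40), (.mul (.l 4) (.l 12), .l 40), (.inv (.mul (.l 4) (.l 12)), .l 40)] (.l 40) nz_P_T)))

theorem nz_P_ev : nz.eval nz_P_f = true := by decide +kernel

theorem nz_P {G : Type*} [Group G] {γ : ℕ → G} {k : ℕ} {N : List W} (g : Gf nz γ k N)
    (e : tyB nz k N nz_P_f = true := by decide +kernel) :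
    ∀ h ∈ genW γ (nz.ws 17), h ^ 3 = 1 → h ∈ genW γ (nz.ws 6) ∨ MJ (genW γ (nz.ws 3)) (γ 12) (h) ∨ MJ (genW γ (nz.ws 3)) ((γ 12)⁻¹) (h) ∨ MJ (genW γ (nz.ws 3)) (γ 4 * γ 12) (h) ∨ MJ (genW γ (nz.ws 3)) ((γ 4 * γ 12)⁻¹) (h) :=
  fun y a b => (g.transfer e nz_P_ev y a b).imp_right fun h => by
  obtain ⟨q, m, h⟩ := dt_mj h g.zero (nz.ws 3)
  simp only [List.mem_cons, List.not_mem_nil, or_false] at m
  rcases m with rfl | rfl | rfl | rfl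
  exacts [.inl h, .inr (.inl h), .inr (.inr (.inl h)), .inr (.inr (.inr (h)))]

end Cfsg.Lib.As8
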